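import Groth.Prelude.Def_W4c6instabfans3Fan
import Mathlib

/-! A real nonnegative solution of an integer linear system lies in a simplicial cone spanned by
integral nonnegative solutions; consequences for morphisms of integral simplicial cones. -/

set_option autoImplicit false
open scoped Matrix
open CategoryTheory

namespace Groth.Misc15.Fan

/-- the real kernel of a rational matrix is spanned by a rational projection to the rational kernel -/
lemma exists_ker_proj {I J : Type*} [Fintype I] [DecidableEq I] [Fintype J] (M : Matrix J I ℚ) :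
    ∃ π : Matrix I I ℚ, M * π = 0 ∧
      ∀ x : I → ℝ, M.map (Rat.castHom ℝ) *ᵥ x = 0 → π.map (Rat.castHom ℝ) *ᵥ x = x := by
  classical
  set f := Matrix.toLin' M
  obtain ⟨p, hp⟩ := (LinearMap.range f).exists_isCompl
  obtain ⟨g, hg⟩ := f.rangeRestrict.exists_rightInverse_of_surjective (LinearMap.range_rangeRestrict f)
  let r : (J → ℚ) →ₗ[ℚ] (I → ℚ) := g ∘ₗ (LinearMap.range f).projectionOnto p hp
  have key : M * LinearMap.toMatrix' r * M = M := by
    apply Matrix.toLin'.injective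
    rw [Matrix.toLin'_mul, Matrix.toLin'_mul, Matrix.toLin'_toMatrix']
    refine LinearMap.ext fun v => ?_
    show f (g ((LinearMap.range f).projectionOnto p hp (f v))) = f v
    have h1 : (LinearMap.range f).projectionOnto p hp (f v) = ⟨f v, LinearMap.mem_range_self f v⟩ :=
      Submodule.projectionOnto_apply_left hp ⟨f v, LinearMap.mem_range_self f v⟩
    rw [h1]
    exact congrArg Subtype.val (DFunLike.congr_fun hg ⟨f v, LinearMap.mem_range_self f v⟩)
  refine ⟨1 - LinearMap.toMatrix' r * M, by rw [Matrix.mul_sub, Matrix.mul_one, ← Matrix.mul_assoc, key, sub_self], fun x hx => ?_⟩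
  rw [Matrix.map_sub _ (fun a b => map_sub _ a b), Matrix.map_mul, Matrix.map_one _ (map_zero _) (map_one _),
    Matrix.sub_mulVec, Matrix.one_mulVec, ← Matrix.mulVec_mulVec, hx, Matrix.mulVec_zero, sub_zero]

/-- a rational system with trivial rational kernel has trivial real kernel -/
lemma real_ker_trivial {I J : Type*} [Fintype I] [DecidableEq I] [Fintype J] (M : Matrix J I ℚ)
    (h : ∀ w, M *ᵥ w = 0 → w = 0) (x : I → ℝ) (hx : M.map (Rat.castHom ℝ) *ᵥ x = 0) : x = 0 := by
  obtain ⟨π, hπ, hπx⟩ := exists_ker_proj M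
  have : π = 0 := by
    apply Matrix.toLin'.injective
    refine LinearMap.ext fun v => ?_
    simp only [Matrix.toLin'_apply, map_zero, LinearMap.zero_apply]
    exact h _ (by rw [Matrix.mulVec_mulVec, hπ, Matrix.zero_mulVec])
  rw [← hπx x hx, this]
  simp

lemma exists_rat_basis_around {d : ℕ} (t : Fin d → ℝ) (ht : t ≠ 0) (U : Set (Fin d → ℝ)) (hU : IsOpen U)
    (htU : t ∈ U) :
    ∃ Q : Matrix (Fin d) (Fin d) ℚ, Q.det ≠ 0 ∧ (∀ a, (fun b => (Q b a : ℝ)) ∈ U) ∧
      ∃ z : Fin d → ℝ, (∀ a, 0 < z a) ∧ Q.map (Rat.castHom ℝ) *ᵥ z = t := by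
  classical
  obtain ⟨i0, hi0⟩ : ∃ i, t i ≠ 0 := Function.ne_iff.mp ht
  have hd : (0:ℝ) < d := by exact_mod_cast (Fin.pos i0)
  let u : Fin d → Fin d → ℝ := fun a => if a = i0 then -∑ i ∈ Finset.univ.erase i0, Pi.single i 1 else Pi.single a 1
  have hev : ∀ a, ∀ᶠ ε in nhdsWithin (0:ℝ) (Set.Ioi 0), t + ε • u a ∈ U := fun a => by
    have hc : Continuous fun ε : ℝ => t + ε • u a := by fun_prop
    exact (hc.continuousWithinAt.preimage_mem_nhdsWithin (t := U) (by simpa using hU.mem_nhds htU))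
  obtain ⟨ε, hε, hεpos⟩ := ((Filter.eventually_all.mpr hev).and self_mem_nhdsWithin).exists
  let Q0 : Matrix (Fin d) (Fin d) ℝ := Matrix.of fun b a => (t + ε • u a) b
  have hsum : ∑ a, u a = 0 := by
    rw [← Finset.add_sum_erase _ _ (Finset.mem_univ i0)]
    simp only [u, if_pos rfl]
    rw [Finset.sum_congr rfl (g := fun i => Pi.single i (1:ℝ)) fun i hi => if_neg (Finset.ne_of_mem_erase hi)]
    simp
  have hQ1 : Q0 *ᵥ (fun _ => 1) = (d:ℝ) • t := by
    have : Q0 *ᵥ (fun _ => 1) = ∑ a, (t + ε • u a) := by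
      ext b; simp [Matrix.mulVec, dotProduct, Q0, Finset.sum_apply]
    rw [this, Finset.sum_add_distrib, ← Finset.smul_sum, hsum]
    simp [Nat.cast_smul_eq_nsmul]
  have hdet : Q0.det ≠ 0 := by
    intro h0
    obtain ⟨w, hw, hw0⟩ := Matrix.exists_vecMul_eq_zero_iff.mpr h0
    have hwa : ∀ a, w ⬝ᵥ (t + ε • u a) = 0 := fun a => congrFun hw0 a
    have hwt : w ⬝ᵥ t = 0 := by
      have := congrArg (fun v => w ⬝ᵥ v) hQ1
      simp only [Matrix.dotProduct_mulVec, hw0, zero_dotProduct, dotProduct_smul, smul_eq_mul] at this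
      exact (mul_eq_zero.mp this.symm).resolve_left hd.ne'
    have hne : ∀ a, a ≠ i0 → w a = 0 := fun a ha => by
      have := hwa a
      simp only [u, if_neg ha, dotProduct_add, hwt, zero_add, dotProduct_smul, dotProduct_single, mul_one, smul_eq_mul] at this
      exact (mul_eq_zero.mp this).resolve_left (ne_of_gt hεpos)
    have hw00 : w i0 * t i0 = 0 := by
      rw [dotProduct, Finset.sum_eq_single i0 (fun a _ ha => by rw [hne a ha, zero_mul]) (by simp)] at hwt
      exact hwt
    exact hw (funext fun a => by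
      by_cases ha : a = i0
      · subst ha; exact (mul_eq_zero.mp hw00).resolve_right hi0
      · exact hne a ha)
  let Ω : Set (Matrix (Fin d) (Fin d) ℝ) :=
    (⋂ a, {Q | 0 < (Q.adjugate *ᵥ t) a * Q.det}) ∩ ⋂ a, {Q | (fun b => Q b a) ∈ U}
  have hΩ : IsOpen Ω := (isOpen_iInter_of_finite fun a => isOpen_lt continuous_const (by fun_prop)).inter
    (isOpen_iInter_of_finite fun a => hU.preimage (by fun_prop))
  have hQ0 : Q0 ∈ Ω := by
    refine ⟨Set.mem_iInter.mpr fun a => ?_, Set.mem_iInter.mpr fun a => hε a⟩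
    have h := congrArg (fun v => (Q0.adjugate *ᵥ v) a) hQ1
    simp only [Matrix.mulVec_mulVec, Matrix.adjugate_mul, Matrix.smul_mulVec, Matrix.one_mulVec,
      Matrix.mulVec_smul, Pi.smul_apply, smul_eq_mul, mul_one] at h
    show 0 < (Q0.adjugate *ᵥ t) a * Q0.det
    rw [show (Q0.adjugate *ᵥ t) a * Q0.det = Q0.det ^ 2 / d by rw [eq_div_iff hd.ne', sq]; linear_combination -(Q0.det) * h]
    positivity
  have hdense : DenseRange (fun Q : Fin d → Fin d → ℚ => fun b a => (Q b a : ℝ)) :=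
    DenseRange.piMap fun _ => DenseRange.piMap fun _ => Rat.denseRange_cast
  obtain ⟨Q, hQ⟩ := hdense.exists_mem_open (X := Fin d → Fin d → ℝ) hΩ ⟨Q0, hQ0⟩
  obtain ⟨hQ1', hQ2'⟩ := hQ
  set QR := (Matrix.of Q).map (Rat.castHom ℝ) with hQR
  have hpos : ∀ a, 0 < (QR.adjugate *ᵥ t) a * QR.det := Set.mem_iInter.mp hQ1'
  have hdR : QR.det ≠ 0 := fun h => by simpa [h] using hpos i0
  refine ⟨Matrix.of Q, fun h => hdR (by rw [hQR]; exact ((Rat.castHom ℝ).map_det (Matrix.of Q)).symm.trans (by rw [h, map_zero])),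
    Set.mem_iInter.mp hQ2', QR.det⁻¹ • (QR.adjugate *ᵥ t), fun a => ?_, ?_⟩
  · show 0 < QR.det⁻¹ * _
    rw [show QR.det⁻¹ * (QR.adjugate *ᵥ t) a = ((QR.adjugate *ᵥ t) a * QR.det) / QR.det ^ 2 by field_simp]
    exact div_pos (hpos a) (by positivity)
  · rw [Matrix.mulVec_smul, Matrix.mulVec_mulVec, Matrix.mul_adjugate, Matrix.smul_mulVec, Matrix.one_mulVec,
      smul_smul, inv_mul_cancel₀ hdR, one_smul]

/-- simplicial subdivision lemma -/
theorem exists_int_simplicial {I J : Type*} [Fintype I] [DecidableEq I] [Fintype J] (M : Matrix J I ℤ)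
    (x : I → ℝ) (hx : ∀ i, 0 ≤ x i) (hx0 : x ≠ 0) (hMx : M.map (fun a : ℤ => (a : ℝ)) *ᵥ x = 0) :
    ∃ (d : ℕ) (q : Fin d → I → ℤ) (z : Fin d → ℝ), 0 < d ∧ (∀ a i, 0 ≤ q a i) ∧
      (∀ a, M *ᵥ q a = 0) ∧ LinearIndependent ℤ q ∧ (∀ a, 0 < z a) ∧
      x = fun i => ∑ a, z a * (q a i : ℝ) := by
  classical
  let S : Finset I := Finset.univ.filter fun i => x i ≠ 0
  let M' : Matrix (J ⊕ I) I ℚ := Matrix.of (Sum.elim (fun j i => (M j i : ℚ))
    (fun i' i => if i' = i ∧ i ∉ S then 1 else 0))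
  obtain ⟨π, hπ, hπx⟩ := exists_ker_proj M'
  have hM'x : M'.map (Rat.castHom ℝ) *ᵥ x = 0 := by
    funext r
    rcases r with j | i'
    · simpa [Matrix.mulVec, dotProduct, M'] using congrFun hMx j
    · simp [Matrix.mulVec, dotProduct, M', S, ite_and, apply_ite]
  set W : Submodule ℚ (I → ℚ) := LinearMap.ker (Matrix.toLin' M')
  have hWmem : ∀ w ∈ W, (M.map (fun a : ℤ => (a : ℚ)) *ᵥ w = 0) ∧ ∀ i ∉ S, w i = 0 := by
    intro w hw
    have h : M' *ᵥ w = 0 := LinearMap.mem_ker.mp hw
    refine ⟨funext fun j => ?_, fun i hi => ?_⟩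
    · simpa [Matrix.mulVec, dotProduct, M'] using congrFun h (.inl j)
    · simpa [Matrix.mulVec, dotProduct, M', ite_and, hi] using congrFun h (.inr i)
  let bas := Module.finBasis ℚ W
  set d := Module.finrank ℚ W
  have hπW : ∀ i, (fun j => π j i) ∈ W := fun i => LinearMap.mem_ker.mpr (funext fun r => congrFun (congrFun hπ r) i)
  let t : Fin d → ℝ := fun a => ∑ i, x i * (bas.repr ⟨_, hπW i⟩ a : ℝ)
  let comb : (Fin d → ℝ) → I → ℝ := fun s j => ∑ a, s a * ((bas a : I → ℚ) j : ℝ)
  have hcomb : comb t = x := by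
    conv_rhs => rw [← hπx x hM'x]
    funext j
    have e : ∀ i, (π j i : ℝ) = ∑ a, (bas.repr ⟨_, hπW i⟩ a : ℝ) * ((bas a : I → ℚ) j : ℝ) := fun i => by
      conv_lhs => rw [show π j i = ((⟨_, hπW i⟩ : W) : I → ℚ) j from rfl, ← bas.sum_repr ⟨_, hπW i⟩]
      simp only [Submodule.coe_sum, Submodule.coe_smul, Finset.sum_apply, Pi.smul_apply, smul_eq_mul, Rat.cast_sum, Rat.cast_mul]
    simp only [comb, t, Finset.sum_mul, Matrix.mulVec, dotProduct, Matrix.map_apply, Rat.coe_castHom, e]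
    rw [Finset.sum_comm]
    exact Finset.sum_congr rfl fun i _ => Finset.sum_congr rfl fun a _ => by ring
  have ht : t ≠ 0 := fun h => hx0 (by rw [← hcomb, h]; funext j; simp [comb])
  let U : Set (Fin d → ℝ) := ⋂ i ∈ S, {s | 0 < comb s i}
  have hU : IsOpen U := isOpen_biInter_finset fun i _ => isOpen_lt continuous_const (by simp only [comb]; fun_prop)
  have htU : t ∈ U := Set.mem_iInter₂.mpr fun i hi => by
    show 0 < comb t i
    rw [hcomb]; exact lt_of_le_of_ne (hx i) (Ne.symm (Finset.mem_filter.mp hi).2)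
  obtain ⟨Q, hQdet, hQU, z, hz, hQz⟩ := exists_rat_basis_around t ht U hU htU
  let v : Fin d → W := fun a => ∑ b, Q b a • bas b
  have hv : LinearIndependent ℚ v := by
    rw [Fintype.linearIndependent_iff]
    intro c hc
    have : Q *ᵥ c = 0 := funext fun b => by
      have := congrArg (fun w => bas.repr w b) hc
      simpa [v, Finsupp.single_apply, Matrix.mulVec, dotProduct, mul_comm] using this
    exact congrFun (Matrix.eq_zero_of_mulVec_eq_zero hQdet this)
  have hvcast : ∀ a j, ((v a : I → ℚ) j : ℝ) = comb (fun b => (Q b a : ℝ)) j := fun a j => by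
    simp [v, comb, Finset.sum_apply]
  have hnn : ∀ a j, 0 ≤ (v a : I → ℚ) j := fun a j => by
    by_cases hj : j ∈ S
    · have := Set.mem_iInter₂.mp (hQU a) j hj
      rw [Set.mem_ofPred_eq, ← hvcast] at this
      exact_mod_cast this.le
    · rw [(hWmem _ (v a).2).2 j hj]
  obtain ⟨D, hD⟩ := IsLocalization.exist_integer_multiples_of_finite (nonZeroDivisors ℤ)
    (fun p : Fin d × I => (v p.1 : I → ℚ) p.2)
  choose qf hqf using hD
  have hD0 : (D : ℤ) ≠ 0 := nonZeroDivisors.coe_ne_zero D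
  set s : ℤ := (D : ℤ) * (D : ℤ) with hs
  have hs0 : (0:ℚ) < (s : ℚ) := by exact_mod_cast mul_self_pos.mpr hD0
  have hq : ∀ a i, ((D : ℤ) * qf (a, i) : ℤ) = (s : ℚ) * (v a : I → ℚ) i := fun a i => by
    have := hqf (a, i)
    simp only [zsmul_eq_mul, algebraMap_int_eq, eq_intCast] at this
    push_cast [hs]; rw [this]; ring
  refine ⟨d, fun a i => (D : ℤ) * qf (a, i), fun a => z a / (s : ℝ), ?_, ?_, ?_, ?_, ?_, ?_⟩
  · rcases Nat.eq_zero_or_pos d with h | h
    · exact absurd (funext fun a => absurd a.2 (by omega)) ht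
    · exact h
  · intro a i
    have : (0:ℚ) ≤ (((D : ℤ) * qf (a, i) : ℤ) : ℚ) := by rw [hq]; exact mul_nonneg hs0.le (hnn a i)
    exact_mod_cast this
  · intro a
    funext j
    have h := congrFun (hWmem _ (v a).2).1 j
    have : (((M *ᵥ fun i => (D : ℤ) * qf (a, i)) j : ℤ) : ℚ) = 0 := by
      simp only [Matrix.mulVec, dotProduct, Matrix.map_apply, Pi.zero_apply] at h ⊢
      push_cast
      calc _ = (s : ℚ) * ∑ i, (M j i : ℚ) * (v a : I → ℚ) i := by
            rw [Finset.mul_sum]; refine Finset.sum_congr rfl fun i _ => ?_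
            have := hq a i; push_cast at this; rw [this]; ring
        _ = 0 := by rw [h, mul_zero]
    exact_mod_cast this
  · rw [Fintype.linearIndependent_iff]
    intro c hc a
    have : ∑ a, (c a : ℚ) • v a = 0 := by
      refine Subtype.ext (funext fun i => ?_)
      have h := congrArg (fun w : I → ℤ => (w i : ℚ)) hc
      simp only [Finset.sum_apply, Pi.smul_apply, smul_eq_mul, Int.cast_sum, Pi.zero_apply, Int.cast_zero] at h
      simp only [Submodule.coe_sum, Submodule.coe_smul, Finset.sum_apply, Pi.smul_apply, smul_eq_mul,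
        ZeroMemClass.coe_zero, Pi.zero_apply]
      have h' : (s:ℚ) * ∑ a, (c a : ℚ) * (v a : I → ℚ) i = 0 := by
        rw [← h, Finset.mul_sum]; refine Finset.sum_congr rfl fun a _ => ?_
        have := hq a i
        push_cast at this ⊢
        rw [this]; ring
      exact (mul_eq_zero.mp h').resolve_left hs0.ne'
    exact_mod_cast Fintype.linearIndependent_iff.mp hv _ this a
  · exact fun a => div_pos (hz a) (by exact_mod_cast hs0)
  · rw [← hcomb]
    funext i
    have hsR : (s : ℝ) ≠ 0 := by exact_mod_cast hs0.ne'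
    have hq' : ∀ a, (((D : ℤ) * qf (a, i) : ℤ) : ℝ) = (s : ℝ) * comb (fun b => (Q b a : ℝ)) i := fun a => by
      rw [← hvcast]; exact_mod_cast hq a i
    simp only [hq']
    have hz' : ∀ a, z a / (s : ℝ) * ((s : ℝ) * comb (fun b => (Q b a : ℝ)) i) = z a * comb (fun b => (Q b a : ℝ)) i :=
      fun a => by field_simp
    rw [Finset.sum_congr rfl fun a _ => hz' a]
    simp only [comb, Finset.mul_sum]
    rw [Finset.sum_comm]
    refine Finset.sum_congr rfl fun b _ => ?_
    rw [← congrFun hQz b, Matrix.mulVec, dotProduct, Finset.sum_mul]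
    exact Finset.sum_congr rfl fun a _ => by simp; ring

end Groth.Misc15.Fan
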