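import Groth.Agent.Misc15.Fan.Pull

/-! Topology of the projective realization of a fan. -/

set_option autoImplicit false
universe u
open scoped Matrix
open CategoryTheory Opposite Instab Instab.Fan Filter

namespace Groth.Misc15.Fan

variable {k n : ICone}

lemma isEmbedding_val (n : ICone) : Topology.IsEmbedding (fun v : Orth n => v.1) :=
  Topology.IsEmbedding.subtypeVal

instance (n : ICone) : T2Space (Orth n) := (isEmbedding_val n).t2Space

instance (n : ICone) : FirstCountableTopology (Orth n) := (isEmbedding_val n).isInducing.firstCountableTopology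

lemma continuous_val (n : ICone) : Continuous (fun v : Orth n => v.1) := (isEmbedding_val n).continuous

lemma continuous_realMap (φ : k ⟶ n) : Continuous φ.realMap := by
  unfold ICone.Hom.realMap
  fun_prop

lemma continuous_push (φ : k ⟶ n) : Continuous (push φ) :=
  (isEmbedding_val n).continuous_iff.mpr ((continuous_realMap φ).comp (continuous_val k))

/-- a set of the orthant closed under positive rescaling -/
def Invariant (S : Set (Orth n)) : Prop :=
  ∀ v w : Orth n, v ∈ S → ∀ c : ℝ, 0 < c → w.1 = c • v.1 → w ∈ S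

/-- positive multiples of images of `D` under a cone morphism -/
def imageCone (φ : k ⟶ n) (D : Set (Orth k)) : Set (Orth n) :=
  {w | ∃ v ∈ D, ∃ c : ℝ, 0 < c ∧ w.1 = c • φ.realMap v.1}

lemma isClosed_imageCone (φ : k ⟶ n) {D : Set (Orth k)} (hD : IsClosed D) (hinv : Invariant D) :
    IsClosed (imageCone φ D) := by
  obtain ⟨D0, hD0, rfl⟩ := (isEmbedding_val k).isInducing.isClosed_iff.mp hD
  have hA : IsClosed ((D0 ∩ {v : Fin k.dim → ℝ | ∀ i, 0 ≤ v i}) ∪ {0}) := by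
    refine (hD0.inter ?_).union isClosed_singleton
    rw [Set.ofPred_forall]
    exact isClosed_iInter fun i => isClosed_le continuous_const (continuous_apply i)
  have hemb : Topology.IsClosedEmbedding (Matrix.mulVecLin (matR φ.toLin)) :=
    LinearMap.isClosedEmbedding_of_injective (LinearMap.ker_eq_bot'.mpr fun x hx => matR_injective _ φ.injective x hx)
  convert (hemb.isClosedMap _ hA).preimage (continuous_val n) using 1
  ext w
  simp only [Set.mem_preimage, Set.mem_image, Matrix.mulVecLin_apply, ← realMap_eq]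
  constructor
  · rintro ⟨v, hv, c, hc, e⟩
    exact ⟨(scale c hc v).1, Or.inl ⟨hinv v _ hv c hc rfl, (scale c hc v).2.1⟩, by rw [scale_val, realMap_smul, e]⟩
  · rintro ⟨a, ha, e⟩
    rcases ha with ⟨ha, hnn⟩ | ha
    · refine ⟨⟨a, hnn, fun h0 => w.2.2 ?_⟩, ha, 1, one_pos, by rw [one_smul]; exact e.symm⟩
      rw [← e, h0, realMap_eq, Matrix.mulVec_zero]
    · rw [Set.mem_singleton_iff] at ha
      exact absurd (by rw [← e, ha, realMap_eq, Matrix.mulVec_zero]) w.2.2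

lemma sum_pos' (v : Orth n) : 0 < ∑ i, v.1 i := by
  obtain ⟨i, hi⟩ := Function.ne_iff.mp v.2.2
  exact Finset.sum_pos' (fun j _ => v.2.1 j) ⟨i, Finset.mem_univ i, lt_of_le_of_ne (v.2.1 i) (Ne.symm hi)⟩

/-- the multiple with coordinate sum one -/
noncomputable def nrm (v : Orth n) : Orth n := scale (∑ i, v.1 i)⁻¹ (inv_pos.mpr (sum_pos' v)) v

lemma nrm_val (v : Orth n) : (nrm v).1 = (∑ i, v.1 i)⁻¹ • v.1 := rfl

lemma continuous_nrm : Continuous (nrm (n := n)) :=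
  (isEmbedding_val n).continuous_iff.mpr
    (((continuous_finsetSum _ fun i _ => (continuous_apply i).comp (continuous_val n)).inv₀
      fun v => (sum_pos' v).ne').smul (continuous_val n))

lemma sum_nrm (v : Orth n) : ∑ i, (nrm v).1 i = 1 := by
  simp [nrm_val, ← Finset.mul_sum, inv_mul_cancel₀ (sum_pos' v).ne']

lemma nrm_of_sum_eq_one {v : Orth n} (h : ∑ i, v.1 i = 1) : nrm v = v :=
  orth_ext (by rw [nrm_val, h, inv_one, one_smul])

lemma nrm_eq_of_smul {v w : Orth n} {c : ℝ} (hc : 0 < c) (h : w.1 = c • v.1) : nrm w = nrm v := by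
  refine orth_ext ?_
  rw [nrm_val, nrm_val, h, smul_smul]
  simp only [Pi.smul_apply, smul_eq_mul, ← Finset.mul_sum]
  congr 1
  field_simp

lemma isCompact_sum_one (n : ICone) : IsCompact {v : Orth n | ∑ i, v.1 i = 1} := by
  rw [(isEmbedding_val n).isCompact_iff]
  convert isCompact_stdSimplex ℝ (Fin n.dim) using 1
  ext v
  constructor
  · rintro ⟨w, hw, rfl⟩
    exact ⟨w.2.1, hw⟩
  · rintro ⟨h0, h1⟩
    exact ⟨⟨v, h0, fun h => by simp [h] at h1⟩, h1, rfl⟩

/-- integer points of the orthant -/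
def intPt (w : Fin n.dim → ℤ) (hw : ∀ i, 0 ≤ w i) (hw0 : w ≠ 0) : Orth n :=
  ⟨fun i => (w i : ℝ), fun i => Int.cast_nonneg (hw i),
    fun h => hw0 (funext fun i => by simpa using congrFun h i)⟩

lemma invariant_dense {S : Set (Orth n)} (hS : IsClosed S) (hinv : Invariant S)
    (hint : ∀ w hw hw0, intPt w hw hw0 ∈ S) (v : Orth n) : v ∈ S := by
  have hpos : ∀ N : ℕ, (0:ℝ) < N + 1 := fun N => by positivity
  let w : ℕ → Fin n.dim → ℤ := fun N i => ⌈((N:ℝ) + 1) * v.1 i⌉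
  have hw : ∀ N i, 0 ≤ w N i := fun N i => Int.ceil_nonneg (mul_nonneg (hpos N).le (v.2.1 i))
  have hw0 : ∀ N, w N ≠ 0 := fun N h => by
    obtain ⟨i, hi⟩ := Function.ne_iff.mp v.2.2
    exact (Int.ceil_pos.mpr (mul_pos (hpos N) (lt_of_le_of_ne (v.2.1 i) (Ne.symm hi)))).ne' (congrFun h i)
  let u : ℕ → Orth n := fun N => scale ((N:ℝ) + 1)⁻¹ (inv_pos.mpr (hpos N)) (intPt (w N) (hw N) (hw0 N))
  refine hS.mem_of_tendsto (b := atTop) (f := u) ?_ (Eventually.of_forall fun N =>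
    hinv _ _ (hint (w N) (hw N) (hw0 N)) _ (inv_pos.mpr (hpos N)) rfl)
  refine (isEmbedding_val n).tendsto_nhds_iff.mpr (tendsto_pi_nhds.mpr fun i => ?_)
  refine tendsto_of_tendsto_of_tendsto_of_le_of_le (g := fun _ : ℕ => v.1 i) (h := fun N : ℕ => v.1 i + 1 / ((N:ℝ) + 1))
    tendsto_const_nhds (by simpa using tendsto_const_nhds.add (tendsto_one_div_add_atTop_nhds_zero_nat (𝕜 := ℝ)))
    (fun N => ?_) (fun N => ?_)
  · show v.1 i ≤ ((N:ℝ) + 1)⁻¹ * (w N i : ℝ)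
    rw [inv_mul_eq_div, le_div_iff₀ (hpos N), mul_comm]
    exact Int.le_ceil _
  · show ((N:ℝ) + 1)⁻¹ * (w N i : ℝ) ≤ _
    rw [inv_mul_eq_div, div_le_iff₀ (hpos N), add_mul, one_div_mul_cancel (hpos N).ne', mul_comm]
    exact (Int.ceil_lt_add_one _).le

/-! ### the realization -/

variable {F G : Fan.{u}}

lemma continuous_mk (ξ : F.obj (op n)) : Continuous (P.mk ξ) :=
  continuous_quot_mk.comp (continuous_sigmaMk (ι := Σ m : ICone, F.obj (op m)) (σ := fun e => Orth e.1) (i := ⟨n, ξ⟩))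

lemma isClosed_iff_preimage {C : Set (P F)} :
    IsClosed C ↔ ∀ (n : ICone) (ξ : F.obj (op n)), IsClosed (P.mk ξ ⁻¹' C) := by
  refine ⟨fun h n ξ => h.preimage (continuous_mk ξ), fun h => ?_⟩
  refine (isQuotientMap_quot_mk (r := Rel F)).isClosed_preimage.mp ?_
  exact isClosed_sigma_iff.mpr fun e => h e.1 e.2

lemma continuous_map (f : F ⟶ G) : Continuous (Fan.P.map f) :=
  continuous_iff_isClosed.mpr fun _ hC => isClosed_iff_preimage.mpr fun n ξ => hC.preimage (continuous_mk (f.app (op n) ξ))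

lemma invariant_preimage (ξ : F.obj (op n)) (C : Set (P F)) : Invariant (P.mk ξ ⁻¹' C) := fun v w hv c hc h => by
  show P.mk ξ w ∈ C
  rw [mk_scale ξ hc h]
  exact hv

lemma mk_nrm (ξ : F.obj (op n)) (v : Orth n) : P.mk ξ (nrm v) = P.mk ξ v :=
  mk_scale ξ (inv_pos.mpr (sum_pos' v)) (nrm_val v)

lemma isRational_intPt (ξ : F.obj (op n)) (w : Fin n.dim → ℤ) (hw : ∀ i, 0 ≤ w i) (hw0 : w ≠ 0) :
    (P.mk ξ (intPt w hw hw0)).IsRational := by
  let φ : one ⟶ n := ⟨(LinearMap.proj (R := ℤ) (φ := fun _ : Fin 1 => ℤ) (0 : Fin 1)).smulRight w,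
    (injective_iff_map_eq_zero _).mpr fun t ht => funext fun (i : Fin 1) => by
      have h : t (0 : Fin 1) • w = 0 := ht
      rw [show i = 0 from Subsingleton.elim _ _]
      exact (smul_eq_zero.mp h).resolve_right hw0,
    fun t ht j => show 0 ≤ t (0 : Fin 1) * w j from mul_nonneg (ht _) (hw j)⟩
  refine ⟨F.map φ.op ξ, (mk_glue φ ξ (Orth.ones one) _ 1 one_pos ?_).symm⟩
  rw [one_smul, show (Orth.ones one).1 = fun i => (((fun _ => 1) : Fin one.dim → ℤ) i : ℝ) from by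
    funext i; simp [Orth.ones], realMap_int]
  funext j
  show (w j : ℝ) = (((1 : ℤ) • w) j : ℝ)
  rw [one_smul]

/-- the cone `h_[n]` -/
abbrev yo (n : ICone) : Fan.{u} := uliftYoneda.{u}.obj n

/-- a cone of `h_[n]` -/
abbrev up (φ : k ⟶ n) : (yo.{u} n).obj (op k) := ULift.up φ

lemma mk_up_eq (φ : k ⟶ n) (y : Orth k) (v : Orth n) :
    P.mk (up.{u} φ) y = P.mk (up.{u} (𝟙 n)) v ↔ ∃ c : ℝ, 0 < c ∧ v.1 = c • φ.realMap y.1 := by
  constructor
  · intro h
    obtain ⟨k', φ₁, φ₂, y', c₁, c₂, he, hc₁, hc₂, e₁, e₂⟩ := exists_common h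
    have he' : φ₁ ≫ φ = φ₂ ≫ 𝟙 n := congrArg ULift.down he
    rw [Category.comp_id] at he'
    refine ⟨c₂ / c₁, div_pos hc₂ hc₁, ?_⟩
    rw [e₂, e₁, ← he', realMap_comp, realMap_smul, smul_smul, div_mul_cancel₀ _ hc₁.ne']
  · rintro ⟨c, hc, e⟩
    have e' : (yo.{u} n).map φ.op (up (𝟙 n)) = up φ := congrArg ULift.up (Category.comp_id φ)
    rw [← e']
    exact mk_glue φ _ _ _ c hc e

lemma coneMap_mk_up (σ : F.obj (op n)) (φ : k ⟶ n) (y : Orth k) :
    Fan.P.map (coneMap σ) (P.mk (up φ) y) = P.mk (F.map φ.op σ) y := rfl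

lemma coneMap_mk_id (σ : F.obj (op n)) (v : Orth n) :
    Fan.P.map (coneMap σ) (P.mk (up (𝟙 n)) v) = P.mk σ v := by rw [coneMap_mk_up, map_id']

lemma isBounded_yo (n : ICone) : IsBounded (yo.{u} n) := by
  refine ⟨{⟨n, up (𝟙 n)⟩}, fun x => ⟨_, Finset.mem_singleton_self _, ?_⟩⟩
  obtain ⟨k, φ, v, rfl⟩ := P.exists_rep x
  exact ⟨push φ.down v, ((mk_up_eq φ.down v _).mpr ⟨1, one_pos, (one_smul ℝ _).symm⟩).symm⟩

/-- over each cone a bounded map is described by finitely many cones -/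
lemma bounded_cover {ψ : F ⟶ G} (hψ : IsBoundedMap ψ) (ξ : G.obj (op n)) :
    ∃ s : Finset (Σ k : ICone, F.obj (op k) × (k ⟶ n)),
      (∀ e ∈ s, ψ.app (op e.1) e.2.1 = G.map e.2.2.op ξ) ∧
      ∀ (x : P F) (v : Orth n), Fan.P.map ψ x = P.mk ξ v →
        ∃ e ∈ s, ∃ (y : Orth e.1) (c : ℝ), 0 < c ∧ x = P.mk e.2.1 y ∧ v.1 = c • e.2.2.realMap y.1 := by
  classical
  obtain ⟨s0, hs0⟩ := hψ n ξ
  refine ⟨s0.image fun e => ⟨e.1, (Limits.pullback.fst ψ (coneMap ξ)).app (op e.1) e.2,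
    ((Limits.pullback.snd ψ (coneMap ξ)).app (op e.1) e.2).down⟩, ?_, ?_⟩
  · intro e he
    obtain ⟨e0, -, rfl⟩ := Finset.mem_image.mp he
    exact pullback_cond ψ (coneMap ξ) e0.2
  · intro x v h
    obtain ⟨z, hz₁, hz₂⟩ := pullback_lift ψ (coneMap ξ) x (P.mk (up (𝟙 n)) v) (by rw [coneMap_mk_id, h])
    obtain ⟨e0, he0, y, rfl⟩ := hs0 z
    obtain ⟨c, hc, e⟩ := (mk_up_eq ((Limits.pullback.snd ψ (coneMap ξ)).app (op e0.1) e0.2).down y v).mp hz₂
    exact ⟨_, Finset.mem_image_of_mem _ he0, y, c, hc, hz₁.symm, e⟩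

lemma preimage_image_eq {ψ : F ⟶ G} {ξ : G.obj (op n)} {s : Finset (Σ k : ICone, F.obj (op k) × (k ⟶ n))}
    (hs₁ : ∀ e ∈ s, ψ.app (op e.1) e.2.1 = G.map e.2.2.op ξ)
    (hs₂ : ∀ (x : P F) (v : Orth n), Fan.P.map ψ x = P.mk ξ v →
        ∃ e ∈ s, ∃ (y : Orth e.1) (c : ℝ), 0 < c ∧ x = P.mk e.2.1 y ∧ v.1 = c • e.2.2.realMap y.1)
    (C : Set (P F)) :
    P.mk ξ ⁻¹' (Fan.P.map ψ '' C) = ⋃ e ∈ s, imageCone e.2.2 (P.mk e.2.1 ⁻¹' C) := by
  ext v
  simp only [Set.mem_preimage, Set.mem_image, Set.mem_iUnion]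
  constructor
  · rintro ⟨x, hx, h⟩
    obtain ⟨e, he, y, c, hc, rfl, hv⟩ := hs₂ x v h
    exact ⟨e, he, y, hx, c, hc, hv⟩
  · rintro ⟨e, he, y, hy, c, hc, hv⟩
    refine ⟨_, hy, ?_⟩
    rw [map_mk, hs₁ e he]
    exact mk_glue _ _ _ _ c hc hv

lemma isClosedMap_map {ψ : F ⟶ G} (hψ : IsBoundedMap ψ) : IsClosedMap (Fan.P.map ψ) := by
  intro C hC
  refine isClosed_iff_preimage.mpr fun n ξ => ?_
  obtain ⟨s, hs₁, hs₂⟩ := bounded_cover hψ ξ
  rw [preimage_image_eq hs₁ hs₂]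
  exact s.finite_toSet.isClosed_biUnion fun e _ =>
    isClosed_imageCone _ (hC.preimage (continuous_mk _)) (invariant_preimage _ _)

lemma finite_fiber {ψ : F ⟶ G} (hψ : IsBoundedMap ψ) (y : P G) : (Fan.P.map ψ ⁻¹' {y}).Finite := by
  obtain ⟨n, ξ, v, rfl⟩ := P.exists_rep y
  obtain ⟨s, hs₁, hs₂⟩ := bounded_cover hψ ξ
  refine (s.finite_toSet.biUnion (t := fun e => {x | ∃ (w : Orth e.1) (c : ℝ), 0 < c ∧ x = P.mk e.2.1 w ∧
    v.1 = c • e.2.2.realMap w.1}) fun e _ => Set.Subsingleton.finite ?_).subset ?_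
  · rintro _ ⟨w, c, hc, rfl, h⟩ _ ⟨w', c', hc', rfl, h'⟩
    refine mk_scale _ (div_pos hc' hc) (realMap_inj e.2.2 ?_)
    rw [realMap_smul, div_eq_inv_mul, ← smul_smul, ← h', h, smul_smul, inv_mul_cancel₀ hc.ne', one_smul]
  · intro x hx
    obtain ⟨e, he, w, c, hc, hx', hv⟩ := hs₂ x v hx
    exact Set.mem_biUnion he ⟨w, c, hc, hx', hv⟩

/-- maps of bounded fans into a quasi-separated fan are bounded -/
lemma isBoundedMap_of_qs (hG : G.IsQuasiSeparated) (f : F ⟶ G) (hF : IsBounded F) : IsBoundedMap f := by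
  classical
  intro n σ
  obtain ⟨s, hs⟩ := hF
  have hb : ∀ a : Σ m : ICone, F.obj (op m), IsBounded (Limits.pullback (coneMap (f.app (op a.1) a.2)) (coneMap σ)) :=
    fun a => hG _ _ _ _
  choose t ht using hb
  let h : ∀ a : Σ m : ICone, F.obj (op m),
      Limits.pullback (coneMap (f.app (op a.1) a.2)) (coneMap σ) ⟶ Limits.pullback f (coneMap σ) :=
    fun a => Limits.pullback.lift (Limits.pullback.fst _ _ ≫ coneMap a.2) (Limits.pullback.snd _ _)
      (by rw [Category.assoc, coneMap_comp, Limits.pullback.condition])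
  refine ⟨(s.sigma t).image fun p => ⟨p.2.1, (h p.1).app (op p.2.1) p.2.2⟩, fun x => ?_⟩
  obtain ⟨m, e, y0, rfl⟩ := P.exists_rep x
  obtain ⟨a, ha, w, hw⟩ := hs (P.mk ((Limits.pullback.fst f (coneMap σ)).app (op m) e) y0)
  obtain ⟨k, φ₁, φ₂, y, c₁, c₂, he, hc₁, hc₂, e₁, e₂⟩ := exists_common hw.symm
  obtain ⟨z, hz₁, hz₂⟩ := pullback_exists (coneMap (f.app (op a.1) a.2)) (coneMap σ) (up φ₂)
    ((Limits.pullback.snd f (coneMap σ)).app (op k) ((Limits.pullback f (coneMap σ)).map φ₁.op e)) (by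
      rw [← pullback_cond, coneMap_app, app_map _ φ₁ e, he, app_map])
  have hz : (h a).app (op k) z = (Limits.pullback f (coneMap σ)).map φ₁.op e := by
    apply pullback_ext
    · have e' : h a ≫ Limits.pullback.fst f (coneMap σ) = Limits.pullback.fst _ _ ≫ coneMap a.2 :=
        Limits.pullback.lift_fst _ _ _
      refine (congrArg (fun g : _ ⟶ F => g.app (op k) z) e').trans ?_
      show (coneMap a.2).app (op k) ((Limits.pullback.fst (coneMap (f.app (op a.1) a.2)) (coneMap σ)).app (op k) z) = _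
      rw [hz₁, coneMap_app, app_map, he]
    · have e' : h a ≫ Limits.pullback.snd f (coneMap σ) = Limits.pullback.snd _ _ :=
        Limits.pullback.lift_snd _ _ _
      exact (congrArg (fun g : _ ⟶ yo n => g.app (op k) z) e').trans hz₂
  obtain ⟨d, hd, y', hy'⟩ := ht a (P.mk z y)
  refine ⟨⟨d.1, (h a).app (op d.1) d.2⟩, Finset.mem_image.mpr ⟨⟨a, d⟩, Finset.mem_sigma.mpr ⟨ha, hd⟩, rfl⟩, y', ?_⟩
  have := congrArg (Fan.P.map (h a)) hy'
  rw [map_mk, map_mk, hz] at this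
  exact this.trans (mk_glue φ₁ e y y0 c₁ hc₁ e₁)

lemma isBoundedMap_coneMap (hF : F.IsQuasiSeparated) (σ : F.obj (op n)) : IsBoundedMap (coneMap σ) :=
  fun m τ => hF n m σ τ

lemma isClosed_cone_image (hF : F.IsQuasiSeparated) (ξ : F.obj (op n)) {S : Set (Orth n)} (hS : IsClosed S)
    (hinv : Invariant S) : IsClosed (P.mk ξ '' S) := by
  have h : IsClosed (P.mk (up.{u} (𝟙 n)) '' S) := by
    refine isClosed_iff_preimage.mpr fun k φ => ?_
    convert hS.preimage (continuous_push φ.down) using 1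
    ext y
    constructor
    · rintro ⟨v, hv, e⟩
      obtain ⟨c, hc, e'⟩ := (mk_up_eq φ.down y v).mp e.symm
      exact hinv v _ hv c⁻¹ (inv_pos.mpr hc) (by rw [push_val, e', smul_smul, inv_mul_cancel₀ hc.ne', one_smul])
    · intro hy
      exact ⟨_, hy, ((mk_up_eq φ.down y _).mpr ⟨1, one_pos, (one_smul ℝ _).symm⟩).symm⟩
  have h' := isClosedMap_map (isBoundedMap_coneMap hF ξ) _ h
  rw [← Set.image_comp] at h'
  rw [show P.mk ξ = Fan.P.map (coneMap ξ) ∘ P.mk (up.{u} (𝟙 n)) from funext fun v => (coneMap_mk_id ξ v).symm]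
  exact h'

lemma isClosed_cell (hF : F.IsQuasiSeparated) (ξ : F.obj (op n)) : IsClosed (P.cell ξ) := by
  rw [P.cell, ← Set.image_univ]
  exact isClosed_cone_image hF ξ isClosed_univ (fun _ _ _ _ _ _ => Set.mem_univ _)

lemma isClosed_iff_cell (hF : F.IsQuasiSeparated) {S : Set (P F)} :
    IsClosed S ↔ ∀ (n : ICone) (ξ : F.obj (op n)), IsClosed (S ∩ P.cell ξ) := by
  refine ⟨fun h n ξ => h.inter (isClosed_cell hF ξ), fun h => isClosed_iff_preimage.mpr fun n ξ => ?_⟩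
  convert (h n ξ).preimage (continuous_mk ξ) using 1
  ext v
  simp [P.cell]

lemma t1Space (hF : F.IsQuasiSeparated) : T1Space (P F) := by
  refine ⟨fun x => ?_⟩
  obtain ⟨n, ξ, v, rfl⟩ := P.exists_rep x
  have h := isClosed_cone_image hF ξ (S := nrm ⁻¹' {nrm v}) (isClosed_singleton.preimage continuous_nrm)
    (fun a b ha c hc e => (nrm_eq_of_smul hc e).trans ha)
  convert h using 1
  ext z
  constructor
  · rintro rfl; exact ⟨v, rfl, rfl⟩
  · rintro ⟨w, hw, rfl⟩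
    rw [Set.mem_preimage, Set.mem_singleton_iff] at hw
    rw [Set.mem_singleton_iff, ← mk_nrm ξ w, hw, mk_nrm]

end Groth.Misc15.Fan
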