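import Groth.Prelude.Def_W4c6instabfans3FanCvx
import Groth.Agent.Misc15.Fan.Topo

/-! Local maxima of quasi-concave functions on convex sets of the realization of a fan. -/

set_option autoImplicit false
universe u v
open CategoryTheory Opposite Instab Instab.Fan Filter Topology

namespace Groth.Misc15.Fan

variable {F : Fan.{u}}

@[simp] lemma b00 : (Orth.basis two 0).1 (0 : Fin two.dim) = 1 := by simp only [Orth.basis, if_true]
@[simp] lemma b10 : (Orth.basis two 1).1 (0 : Fin two.dim) = 0 := by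
  simp only [Orth.basis]
  exact if_neg (fun h => absurd (congrArg Fin.val h) (by decide))
@[simp] lemma b01 : (Orth.basis two 0).1 (1 : Fin two.dim) = 0 := by
  simp only [Orth.basis]
  exact if_neg (fun h => absurd (congrArg Fin.val h) (by decide))
@[simp] lemma b11 : (Orth.basis two 1).1 (1 : Fin two.dim) = 1 := by simp only [Orth.basis, if_true]

/-- the segment between the two vertices of the standard 1-simplex -/
def seg (t : Set.Icc (0:ℝ) 1) : Orth two :=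
  ⟨fun j => (1 - (t:ℝ)) * (Orth.basis two 0).1 j + (t:ℝ) * (Orth.basis two 1).1 j,
    fun j => add_nonneg (mul_nonneg (sub_nonneg.mpr t.2.2) ((Orth.basis two 0).2.1 j))
      (mul_nonneg t.2.1 ((Orth.basis two 1).2.1 j)),
    fun h => by
      have h0 := congrFun h (0 : Fin two.dim)
      have h1 := congrFun h (1 : Fin two.dim)
      simp at h0 h1
      rw [h1] at h0; simp at h0⟩

lemma continuous_seg : Continuous seg := (isEmbedding_val two).continuous_iff.mpr (by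
  show Continuous fun t : Set.Icc (0:ℝ) 1 => fun j => (1 - (t:ℝ)) * (Orth.basis two 0).1 j + (t:ℝ) * (Orth.basis two 1).1 j
  fun_prop)

lemma seg_zero : seg ⟨0, Set.left_mem_Icc.mpr zero_le_one⟩ = Orth.basis two 0 :=
  orth_ext (funext fun j => by simp [seg])

lemma seg_one : seg ⟨1, Set.right_mem_Icc.mpr zero_le_one⟩ = Orth.basis two 1 :=
  orth_ext (funext fun j => by simp [seg])

lemma not_prop_basis : ¬ ∃ c : ℝ, (Orth.basis two 1).1 = c • (Orth.basis two 0).1 := by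
  rintro ⟨c, hc⟩
  have h2 : (Orth.basis two 1).1 (1 : Fin two.dim) = c * (Orth.basis two 0).1 (1 : Fin two.dim) := congrFun hc _
  simp at h2

lemma mem_of_realizable {U : Set (P F)} (hU : IsRealizable U) {x : P F} (hx : x ∈ U) :
    ∃ (n : ICone) (σ : F.obj (op n)) (v : Orth n), x = P.mk σ v ∧ ∀ w, P.mk σ w ∈ U := by
  obtain ⟨S, rfl⟩ := hU
  obtain ⟨z, rfl⟩ := hx
  obtain ⟨n, σ, v, rfl⟩ := P.exists_rep z
  exact ⟨n, σ.1, v, rfl, fun w => ⟨P.mk (F := S.toFunctor) σ w, rfl⟩⟩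

lemma continuous_mkU {U : Set (P F)} {n : ICone} (σ : F.obj (op n)) (h : ∀ w, P.mk σ w ∈ U) :
    Continuous fun w => (⟨P.mk σ w, h w⟩ : U) := (continuous_mk σ).subtype_mk _

/-- rational points are dense in a realizable set -/
lemma exists_rational_mem {U : Set (P F)} (hU : IsRealizable U) {O : Set U} (hO : IsOpen O) {z : U}
    (hz : z ∈ O) : ∃ q : U, q ∈ O ∧ (q : P F).IsRational := by
  by_contra hno
  obtain ⟨n, σ, v, hv, hU'⟩ := mem_of_realizable hU z.2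
  have := invariant_dense (S := (fun w => (⟨P.mk σ w, hU' w⟩ : U)) ⁻¹' Oᶜ)
    (hO.isClosed_compl.preimage (continuous_mkU σ hU'))
    (fun a b ha c hc e => by
      show (⟨P.mk σ b, hU' b⟩ : U) ∈ Oᶜ
      rwa [show (⟨P.mk σ b, hU' b⟩ : U) = ⟨P.mk σ a, hU' a⟩ from Subtype.ext (mk_scale σ hc e)])
    (fun w hw hw0 hmem => hno ⟨_, hmem, isRational_intPt σ w hw hw0⟩) v
  refine this (show (⟨P.mk σ v, hU' v⟩ : U) ∈ O from ?_)
  rwa [show (⟨P.mk σ v, hU' v⟩ : U) = z from Subtype.ext hv.symm]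

/-- a path in `U` between rational points along which `Φ` is quasi-concave -/
lemma exists_path {U : Set (P F)} (hU : IsConvex U) {x y : U} (hx : (x : P F).IsRational)
    (hy : (y : P F).IsRational) (hne : x ≠ y) :
    ∃ (τ : F.obj (op two)) (γ : Set.Icc (0:ℝ) 1 → U), Continuous γ ∧ (∀ t, (γ t : P F) = P.mk τ (seg t)) ∧
      P.mk τ (Orth.basis two 0) = x ∧ P.mk τ (Orth.basis two 1) = y ∧
      γ ⟨0, Set.left_mem_Icc.mpr zero_le_one⟩ = x ∧ γ ⟨1, Set.right_mem_Icc.mpr zero_le_one⟩ = y := by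
  obtain ⟨τ, hτ, h0, h1⟩ := hU.2.2 x y x.2 y.2 hx hy (fun h => hne (Subtype.ext h))
  refine ⟨τ, fun t => ⟨P.mk τ (seg t), hτ ⟨_, rfl⟩⟩, ((continuous_mk τ).comp continuous_seg).subtype_mk _,
    fun _ => rfl, h0, h1, Subtype.ext ?_, Subtype.ext ?_⟩
  · show P.mk τ (seg _) = _
    rw [seg_zero, h0]
  · show P.mk τ (seg _) = _
    rw [seg_one, h1]

variable {Γ : Type v} [LinearOrder Γ] {U : Set (P F)} {Φ : U → Γ}

lemma path_qc (hΦ : IsQuasiConcaveOn U Φ) {x y : U} {τ : F.obj (op two)} {γ : Set.Icc (0:ℝ) 1 → U}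
    (hγ : ∀ t, (γ t : P F) = P.mk τ (seg t)) (h0 : P.mk τ (Orth.basis two 0) = x)
    (h1 : P.mk τ (Orth.basis two 1) = y) (t : Set.Icc (0:ℝ) 1) (ht0 : 0 < (t:ℝ)) (ht1 : (t:ℝ) < 1) :
    min (Φ x) (Φ y) ≤ Φ (γ t) ∧ (Φ (γ t) = min (Φ x) (Φ y) → Φ x = Φ y) := by
  have h₀ : P.mk τ (Orth.basis two 0) ∈ U := by rw [h0]; exact x.2
  have h₂ : P.mk τ (Orth.basis two 1) ∈ U := by rw [h1]; exact y.2
  have h₁ : P.mk τ (seg t) ∈ U := by rw [← hγ]; exact (γ t).2
  have h := hΦ two τ _ _ _ h₀ h₁ h₂ not_prop_basis ⟨1 - (t:ℝ), t, sub_pos.mpr ht1, ht0, funext fun j => rfl⟩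
  rwa [show (⟨_, h₀⟩ : U) = x from Subtype.ext h0, show (⟨_, h₂⟩ : U) = y from Subtype.ext h1,
    show (⟨_, h₁⟩ : U) = γ t from Subtype.ext (hγ t).symm] at h

lemma path_strict (hΦ : IsStrictQuasiConcaveOn U Φ) {x y : U} {τ : F.obj (op two)} {γ : Set.Icc (0:ℝ) 1 → U}
    (hγ : ∀ t, (γ t : P F) = P.mk τ (seg t)) (h0 : P.mk τ (Orth.basis two 0) = x)
    (h1 : P.mk τ (Orth.basis two 1) = y) (t : Set.Icc (0:ℝ) 1) (ht0 : 0 < (t:ℝ)) (ht1 : (t:ℝ) < 1) :
    min (Φ x) (Φ y) < Φ (γ t) := by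
  have h₀ : P.mk τ (Orth.basis two 0) ∈ U := by rw [h0]; exact x.2
  have h₂ : P.mk τ (Orth.basis two 1) ∈ U := by rw [h1]; exact y.2
  have h₁ : P.mk τ (seg t) ∈ U := by rw [← hγ]; exact (γ t).2
  have h := hΦ two τ _ _ _ h₀ h₁ h₂ not_prop_basis ⟨1 - (t:ℝ), t, sub_pos.mpr ht1, ht0, funext fun j => rfl⟩
  rwa [show (⟨_, h₀⟩ : U) = x from Subtype.ext h0, show (⟨_, h₂⟩ : U) = y from Subtype.ext h1,
    show (⟨_, h₁⟩ : U) = γ t from Subtype.ext (hγ t).symm] at h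

/-- a point of the path near its beginning -/
lemma exists_small {γ : Set.Icc (0:ℝ) 1 → U} (hγ : Continuous γ) {x : U}
    (h0 : γ ⟨0, Set.left_mem_Icc.mpr zero_le_one⟩ = x) (hx : IsLocalMax Φ x) :
    ∃ t : Set.Icc (0:ℝ) 1, 0 < (t:ℝ) ∧ (t:ℝ) < 1 ∧ Φ (γ t) ≤ Φ x := by
  have h : ∀ᶠ z in 𝓝 (γ ⟨0, Set.left_mem_Icc.mpr zero_le_one⟩), Φ z ≤ Φ x := by rw [h0]; exact hx
  obtain ⟨ε, hε, hball⟩ := Metric.mem_nhds_iff.mp (hγ.continuousAt.preimage_mem_nhds h)
  have hm : (0:ℝ) < min (ε / 2) (1 / 2) := lt_min (by linarith) (by norm_num)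
  have hm1 : min (ε / 2) (1 / 2) ≤ (1:ℝ) := (min_le_right _ _).trans (by norm_num)
  refine ⟨⟨_, hm.le, hm1⟩, hm, (min_le_right _ _).trans_lt (by norm_num), hball ?_⟩
  rw [Metric.mem_ball, Subtype.dist_eq, Real.dist_eq, sub_zero, abs_of_pos hm]
  exact (min_le_left _ _).trans_lt (by linarith)

theorem le_of_rational_localMax (hU : IsConvex U) (hΦ : IsQuasiConcaveOn U Φ)
    (hlsc : ∀ c : Γ, IsClosed {x : U | Φ x ≤ c}) {x : U} (hxr : (x : P F).IsRational) (hx : IsLocalMax Φ x)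
    (y : U) : Φ y ≤ Φ x := by
  have hrat : ∀ q : U, (q : P F).IsRational → Φ q ≤ Φ x := fun q hq => by
    by_contra hlt
    rw [not_le] at hlt
    obtain ⟨τ, γ, hγ, hγτ, h0, h1, g0, -⟩ := exists_path hU hxr hq (fun h => lt_irrefl _ (h ▸ hlt))
    obtain ⟨t, ht0, ht1, htx⟩ := exists_small hγ g0 hx
    obtain ⟨ha, hb⟩ := path_qc hΦ hγτ h0 h1 t ht0 ht1
    rw [min_eq_left hlt.le] at ha hb
    exact hlt.ne (hb (le_antisymm htx ha))
  by_contra hlt
  obtain ⟨q, hq, hqr⟩ := exists_rational_mem hU.2.1 (hlsc (Φ x)).isOpen_compl (z := y) hlt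
  exact hq (hrat q hqr)

theorem eq_of_rational_localMax (hU : IsConvex U) (hΦ : IsQuasiConcaveOn U Φ)
    (hlsc : ∀ c : Γ, IsClosed {x : U | Φ x ≤ c}) (hs : IsStrictQuasiConcaveOn U Φ) {x y : U}
    (hxr : (x : P F).IsRational) (hyr : (y : P F).IsRational) (hx : IsLocalMax Φ x) (hy : IsLocalMax Φ y) :
    x = y := by
  by_contra hne
  obtain ⟨τ, γ, hγ, hγτ, h0, h1, g0, -⟩ := exists_path hU hxr hyr hne
  obtain ⟨t, ht0, ht1, htx⟩ := exists_small hγ g0 hx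
  have h := path_strict hs hγτ h0 h1 t ht0 ht1
  rw [min_eq_left (le_of_rational_localMax hU hΦ hlsc hyr hy x)] at h
  exact absurd htx (not_le.mpr h)

/-- key step for the uniqueness: no two local maxima with `Φ x ≤ Φ y` -/
theorem not_localMax_pair [TopologicalSpace Γ] [OrderTopology Γ] (hF : F.IsQuasiSeparated)
    (hT2 : T2Space (P F)) (hUc : IsCompact U) (hU : IsConvex U) (hΦc : Continuous Φ)
    (hΦ : IsStrictQuasiConcaveOn U Φ) {x y : U} (hx : IsLocalMax Φ x) (hle : Φ x ≤ Φ y) : x = y := by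
  by_contra hne
  have : CompactSpace U := isCompact_iff_compactSpace.mp hUc
  have := hT2
  have hN : {z : U | Φ z ≤ Φ x} ∈ 𝓝 x := hx
  obtain ⟨W0, ⟨hW0x, hW0c⟩, hW0⟩ := (closed_nhds_basis x).mem_iff.mp
    (Filter.inter_mem (interior_mem_nhds.mpr hN) (isOpen_compl_singleton.mem_nhds (show x ∈ ({y}ᶜ : Set U) from hne)))
  set K : Set U := W0 ∩ {z | Φ z = Φ x} with hK
  have hKinf : K.Infinite := by
    intro hfin
    obtain ⟨W, ⟨hWx, hWc⟩, hW⟩ := (closed_nhds_basis x).mem_iff.mp (Filter.inter_mem (interior_mem_nhds.mpr hW0x)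
      ((hfin.sdiff (t := {x})).isClosed.isOpen_compl.mem_nhds (show x ∈ (K \ {x})ᶜ from fun h => h.2 rfl)))
    set O := interior W with hO
    have hcl : closure O ⊆ W := closure_minimal interior_subset hWc
    have hclW0 : ∀ z ∈ closure O, z ∈ W0 := fun z hz => interior_subset (hW (hcl hz)).1
    have hxO : x ∈ O := mem_interior_iff_mem_nhds.mpr hWx
    have hyO : y ∈ (closure O)ᶜ := fun h => (hW0 (hclW0 y h)).2 rfl
    have hfr : ∀ z ∈ closure O, z ∉ O → Φ z < Φ x := fun z hz hzO => by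
      refine lt_of_le_of_ne (interior_subset (s := {z : U | Φ z ≤ Φ x}) (hW0 (hclW0 z hz)).1) fun he => ?_
      exact (hW (hcl hz)).2 ⟨⟨hclW0 z hz, he⟩, fun (h : z = x) => hzO (h ▸ hxO)⟩
    have hA : ∃ A : Set U, IsOpen A ∧ x ∈ A ∧ y ∈ A ∧ ∀ z ∈ closure O, z ∉ O → ∀ a ∈ A, Φ z < Φ a := by
      rcases (closure O \ O).eq_empty_or_nonempty with hem | hnem
      · exact ⟨Set.univ, isOpen_univ, trivial, trivial, fun z hz hzO => absurd (show z ∈ closure O \ O from ⟨hz, hzO⟩) (by simp [hem])⟩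
      · obtain ⟨c, ⟨hc, hcO⟩, hcmax⟩ := ((isClosed_closure.sdiff isOpen_interior).isCompact).exists_isMaxOn hnem hΦc.continuousOn
        exact ⟨{a | Φ c < Φ a}, isOpen_lt continuous_const hΦc, hfr c hc hcO, (hfr c hc hcO).trans_le hle,
          fun z hz hzO a ha => lt_of_le_of_lt (hcmax ⟨hz, hzO⟩) ha⟩
    obtain ⟨A, hAo, hxA, hyA, hA⟩ := hA
    obtain ⟨x', ⟨hx'O, hx'A⟩, hx'r⟩ := exists_rational_mem hU.2.1 (isOpen_interior.inter hAo) (z := x) ⟨hxO, hxA⟩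
    obtain ⟨y', ⟨hy'O, hy'A⟩, hy'r⟩ := exists_rational_mem hU.2.1 (isClosed_closure.isOpen_compl.inter hAo) (z := y) ⟨hyO, hyA⟩
    obtain ⟨τ, γ, hγ, hγτ, h0, h1, g0, g1⟩ := exists_path hU hx'r hy'r
      (fun h => hy'O (subset_closure (h ▸ hx'O)))
    obtain ⟨t, htc, htO⟩ : ∃ t, γ t ∈ closure O ∧ γ t ∉ O := by
      by_contra hno
      simp only [not_exists, not_and, not_not] at hno
      obtain ⟨z, -, hzO, hzc⟩ := (isPreconnected_range hγ) O (closure O)ᶜ isOpen_interior isClosed_closure.isOpen_compl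
        (by rintro _ ⟨t, rfl⟩
            by_cases h : γ t ∈ closure O
            · exact Or.inl (hno t h)
            · exact Or.inr h)
        ⟨x', ⟨⟨_, g0⟩, hx'O⟩⟩ ⟨y', ⟨⟨_, g1⟩, hy'O⟩⟩
      exact hzc (subset_closure hzO)
    have ht0 : 0 < (t:ℝ) := lt_of_le_of_ne t.2.1 fun h => htO (by
      rw [show t = ⟨0, Set.left_mem_Icc.mpr zero_le_one⟩ from Subtype.ext h.symm, g0]; exact hx'O)
    have ht1 : (t:ℝ) < 1 := lt_of_le_of_ne t.2.2 fun h => hy'O (by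
      rw [show t = ⟨1, Set.right_mem_Icc.mpr zero_le_one⟩ from Subtype.ext h, g1] at htc; exact htc)
    exact lt_irrefl _ ((lt_min (hA _ htc htO _ hx'A) (hA _ htc htO _ hy'A)).trans
      (path_strict hΦ hγτ h0 h1 t ht0 ht1))
  -- some cell meets `K` in infinitely many points
  have hKc : IsCompact K := (hW0c.inter (isClosed_eq hΦc continuous_const)).isCompact
  set K' : Set (P F) := Subtype.val '' K with hK'
  have hK'inf : K'.Infinite := hKinf.image Subtype.val_injective.injOn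
  have hK'c : IsCompact K' := hKc.image continuous_subtype_val
  have := t1Space hF
  obtain ⟨n, σ, hσ⟩ : ∃ (n : ICone) (σ : F.obj (op n)), (K' ∩ P.cell σ).Infinite := by
    by_contra hno
    simp only [not_exists, Set.not_infinite] at hno
    refine hK'inf (hK'c.finite (isDiscrete_iff_discreteTopology.mpr (discreteTopology_iff_forall_isClosed.mpr fun T => ?_)))
    refine isClosed_induced_iff.mpr ⟨Subtype.val '' T, (isClosed_iff_cell hF).mpr fun m ρ =>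
      ((hno m ρ).subset (Set.inter_subset_inter_left _ ?_)).isClosed, Set.preimage_image_eq _ Subtype.val_injective⟩
    rintro _ ⟨⟨z, hz⟩, -, rfl⟩
    exact hz
  choose f hf using fun i : ℕ => (show ((hσ.natEmbedding _ i : (K' ∩ P.cell σ : Set (P F))) : P F) ∈ P.cell σ from
    (hσ.natEmbedding _ i).2.2)
  have hwK : ∀ i, P.mk σ (nrm (f i)) ∈ K' := fun i => by rw [mk_nrm, hf]; exact (hσ.natEmbedding _ i).2.1
  have hinj : ∀ i j, i ≠ j → ¬ ∃ c : ℝ, (nrm (f j)).1 = c • (nrm (f i)).1 := by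
    rintro i j hij ⟨c, hc⟩
    have h1 : c = 1 := by
      have := sum_nrm (f j)
      rw [hc] at this
      simpa [← Finset.mul_sum, sum_nrm] using this
    rw [h1, one_smul] at hc
    exact hij ((hσ.natEmbedding _).injective (Subtype.ext (by rw [← hf i, ← hf j, ← mk_nrm σ (f i), ← mk_nrm σ (f j), orth_ext hc])))
  obtain ⟨p, hp, r, hr, hlim⟩ := (isCompact_sum_one n).tendsto_subseq (x := fun i => nrm (f i)) (fun i => sum_nrm (f i))
  have hpK : P.mk σ p ∈ K' := hK'c.isClosed.mem_of_tendsto (((continuous_mk σ).tendsto p).comp hlim)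
    (Eventually.of_forall fun i => hwK _)
  obtain ⟨O', hO', hO'N⟩ := isOpen_induced_iff.mp (isOpen_interior (s := {z : U | Φ z ≤ Φ x}))
  have hpO : p ∈ P.mk σ ⁻¹' O' := by
    obtain ⟨z, hz, hzp⟩ := hpK
    show P.mk σ p ∈ O'
    rw [← hzp]
    exact (Set.ext_iff.mp hO'N z).mpr (hW0 hz.1).1
  let mid : ℕ → Orth n := fun j => ⟨(1/2:ℝ) • (nrm (f (r j))).1 + (1/2:ℝ) • (nrm (f (r (j+1)))).1,
    fun i => add_nonneg (mul_nonneg (by norm_num) ((nrm (f (r j))).2.1 i)) (mul_nonneg (by norm_num) ((nrm (f (r (j+1)))).2.1 i)),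
    fun h0 => by
      have := congrArg (fun v : Fin n.dim → ℝ => ∑ i, v i) h0
      simp [Finset.sum_add_distrib, ← Finset.mul_sum, sum_nrm] at this⟩
  have hmid : Tendsto mid atTop (𝓝 p) := by
    rw [(isEmbedding_val n).tendsto_nhds_iff]
    have hl := ((continuous_val n).tendsto p).comp hlim
    have h2 := (hl.const_smul (1/2:ℝ)).add ((hl.comp (tendsto_add_atTop_nat 1)).const_smul (1/2:ℝ))
    rw [← add_smul, show (1/2:ℝ) + 1/2 = 1 by norm_num, one_smul] at h2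
    exact h2
  obtain ⟨j, hj⟩ := (hmid.eventually_mem ((hO'.preimage (continuous_mk σ)).mem_nhds hpO)).exists
  obtain ⟨z0, hz0, e0⟩ := hwK (r j)
  obtain ⟨z2, hz2, e2⟩ := hwK (r (j+1))
  have h₀ : P.mk σ (nrm (f (r j))) ∈ U := e0 ▸ z0.2
  have h₂ : P.mk σ (nrm (f (r (j+1)))) ∈ U := e2 ▸ z2.2
  have hab : ∃ a b : ℝ, 0 < a ∧ 0 < b ∧ (mid j).1 = a • (nrm (f (r j))).1 + b • (nrm (f (r (j+1)))).1 :=
    ⟨1/2, 1/2, by norm_num, by norm_num, rfl⟩
  have h₁ : P.mk σ (mid j) ∈ U := hU.1 n σ _ _ _ h₀ h₂ hab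
  have h := hΦ n σ _ _ _ h₀ h₁ h₂ (hinj _ _ (hr (Nat.lt_succ_self j)).ne) hab
  rw [show (⟨_, h₀⟩ : U) = z0 from Subtype.ext e0.symm, show (⟨_, h₂⟩ : U) = z2 from Subtype.ext e2.symm,
    hz0.2, hz2.2, min_self] at h
  exact absurd (interior_subset (s := {z : U | Φ z ≤ Φ x}) ((Set.ext_iff.mp hO'N ⟨_, h₁⟩).mp hj)) (not_le.mpr h)

end Groth.Misc15.Fan
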