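import Groth.Agent.Misc15.Fan.Rel

/-! Cones of fibre products of fans. -/

set_option autoImplicit false
universe u
open CategoryTheory Opposite Instab Instab.Fan

namespace Groth.Misc15.Fan

variable {F F' G : Fan.{u}} {n : ICone}

lemma coneMap_app {k : ICone} (σ : F.obj (op n)) (φ : k ⟶ n) :
    (coneMap σ).app (op k) (ULift.up φ) = F.map φ.op σ := rfl

lemma coneMap_comp (f : F ⟶ G) (σ : F.obj (op n)) : coneMap σ ≫ f = coneMap (f.app (op n) σ) := by
  apply uliftYonedaEquiv.{u}.injective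
  rw [uliftYonedaEquiv_comp, coneMap, coneMap, Equiv.apply_symm_apply, Equiv.apply_symm_apply]

lemma pullback_exists (f : F ⟶ G) (g : F' ⟶ G) (a : F.obj (op n)) (b : F'.obj (op n))
    (h : f.app (op n) a = g.app (op n) b) :
    ∃ e : (Limits.pullback f g).obj (op n),
      (Limits.pullback.fst f g).app (op n) e = a ∧ (Limits.pullback.snd f g).app (op n) e = b := by
  refine ⟨uliftYonedaEquiv.{u} (Limits.pullback.lift (coneMap a) (coneMap b) (by rw [coneMap_comp, coneMap_comp, h])), ?_, ?_⟩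
  · rw [← uliftYonedaEquiv_comp, Limits.pullback.lift_fst, coneMap, Equiv.apply_symm_apply]
  · rw [← uliftYonedaEquiv_comp, Limits.pullback.lift_snd, coneMap, Equiv.apply_symm_apply]

lemma pullback_cond (f : F ⟶ G) (g : F' ⟶ G) (e : (Limits.pullback f g).obj (op n)) :
    f.app (op n) ((Limits.pullback.fst f g).app (op n) e) = g.app (op n) ((Limits.pullback.snd f g).app (op n) e) :=
  congrArg (fun h : Limits.pullback f g ⟶ G => h.app (op n) e) (Limits.pullback.condition (f := f) (g := g))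

lemma pullback_ext (f : F ⟶ G) (g : F' ⟶ G) {e e' : (Limits.pullback f g).obj (op n)}
    (h₁ : (Limits.pullback.fst f g).app (op n) e = (Limits.pullback.fst f g).app (op n) e')
    (h₂ : (Limits.pullback.snd f g).app (op n) e = (Limits.pullback.snd f g).app (op n) e') : e = e' := by
  apply uliftYonedaEquiv.{u}.symm.injective
  apply Limits.pullback.hom_ext
  · exact (coneMap_comp _ e).trans ((congrArg coneMap h₁).trans (coneMap_comp _ e').symm)
  · exact (coneMap_comp _ e).trans ((congrArg coneMap h₂).trans (coneMap_comp _ e').symm)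

lemma pullback_lift (f : F ⟶ G) (g : F' ⟶ G) (x : P F) (x' : P F') (h : Fan.P.map f x = Fan.P.map g x') :
    ∃ y : P (Limits.pullback f g),
      Fan.P.map (Limits.pullback.fst f g) y = x ∧ Fan.P.map (Limits.pullback.snd f g) y = x' := by
  obtain ⟨n, σ, v, rfl⟩ := P.exists_rep x
  obtain ⟨n', σ', v', rfl⟩ := P.exists_rep x'
  obtain ⟨k, φ₁, φ₂, y, c₁, c₂, he, hc₁, hc₂, e₁, e₂⟩ := exists_common h
  obtain ⟨e, hf, hg⟩ := pullback_exists f g (F.map φ₁.op σ) (F'.map φ₂.op σ') (by rw [app_map, app_map, he])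
  refine ⟨P.mk e y, ?_, ?_⟩
  · rw [map_mk, hf]; exact mk_glue _ _ _ _ c₁ hc₁ e₁
  · rw [map_mk, hg]; exact mk_glue _ _ _ _ c₂ hc₂ e₂

lemma p_map_injective (f : F ⟶ G) (hf : ∀ n : ICone, Function.Injective (f.app (op n))) :
    Function.Injective (Fan.P.map f) := by
  intro x x' h
  obtain ⟨n, σ, v, rfl⟩ := P.exists_rep x
  obtain ⟨n', σ', v', rfl⟩ := P.exists_rep x'
  obtain ⟨k, φ₁, φ₂, y, c₁, c₂, he, hc₁, hc₂, e₁, e₂⟩ := exists_common h
  have : F.map φ₁.op σ = F.map φ₂.op σ' := hf k (by rw [app_map, app_map, he])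
  exact ((mk_glue _ _ _ _ c₁ hc₁ e₁).symm.trans (by rw [this])).trans (mk_glue _ _ _ _ c₂ hc₂ e₂)

lemma p_map_surjective (f : F ⟶ G) (hf : ∀ n : ICone, Function.Surjective (f.app (op n))) :
    Function.Surjective (Fan.P.map f) := by
  intro x
  obtain ⟨n, σ, v, rfl⟩ := P.exists_rep x
  obtain ⟨a, rfl⟩ := hf n σ
  exact ⟨P.mk a v, rfl⟩

end Groth.Misc15.Fan
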