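import Groth.Prelude.Def_W4c6instabfans3FanCvx
import Groth.Agent.Misc15.Fan.Topo

/-! The realization of the fan of a finite family of rational cones embeds in the space of rays. -/

set_option autoImplicit false
open scoped Matrix
open CategoryTheory Opposite Instab Instab.Fan

namespace Groth.Misc15.Fan

/-- conic Carathéodory -/
lemma exists_linearIndepOn {ι V : Type*} [DecidableEq ι] [AddCommGroup V] [Module ℝ V] (e : ι → V)
    (s : Finset ι) (c : ι → ℝ) (hc : ∀ i, 0 ≤ c i) :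
    ∃ t ⊆ s, LinearIndependent ℝ (fun i : t => e i) ∧
      ∃ c' : ι → ℝ, (∀ i, 0 ≤ c' i) ∧ ∑ i ∈ s, c i • e i = ∑ i ∈ t, c' i • e i := by
  induction s using Finset.strongInduction generalizing c with
  | H s ih =>
    by_cases hli : LinearIndependent ℝ (fun i : s => e i)
    · exact ⟨s, subset_rfl, hli, c, hc, rfl⟩
    · rw [Fintype.linearIndependent_iff] at hli
      simp only [not_forall] at hli
      obtain ⟨w0, hw0, i0, hi0⟩ := hli
      let w : ι → ℝ := fun i => if h : i ∈ s then w0 ⟨i, h⟩ else 0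
      have hw : ∑ i ∈ s, w i • e i = 0 := by
        rw [← hw0, ← Finset.sum_coe_sort s]
        exact Finset.sum_congr rfl fun i _ => by simp [w]
      have hwne : ∃ i ∈ s, w i ≠ 0 := ⟨i0, i0.2, by simpa [w] using hi0⟩
      obtain ⟨v, hv, hvpos⟩ : ∃ v : ι → ℝ, ∑ i ∈ s, v i • e i = 0 ∧ ∃ i ∈ s, 0 < v i := by
        obtain ⟨i, hi, hne⟩ := hwne
        rcases lt_or_gt_of_ne hne with h | h
        · exact ⟨fun i => -(w i), by simp [hw], i, hi, by linarith⟩
        · exact ⟨w, hw, i, hi, h⟩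
      obtain ⟨i1, hi1, hmin⟩ := (s.filter fun i => 0 < v i).exists_min_image (fun i => c i / v i)
        (by obtain ⟨i, hi, h⟩ := hvpos; exact ⟨i, Finset.mem_filter.mpr ⟨hi, h⟩⟩)
      rw [Finset.mem_filter] at hi1
      let r := c i1 / v i1
      have hr : 0 ≤ r := div_nonneg (hc i1) hi1.2.le
      let c1 : ι → ℝ := fun i => if i ∈ s then c i - r * v i else 0
      have hc1 : ∀ i, 0 ≤ c1 i := fun i => by
        simp only [c1]
        split_ifs with h
        · rcases le_or_gt (v i) 0 with h' | h'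
          · nlinarith [hc i]
          · have := hmin i (Finset.mem_filter.mpr ⟨h, h'⟩)
            rw [le_div_iff₀ h'] at this
            exact sub_nonneg.mpr this
        · exact le_rfl
      obtain ⟨t, ht, htli, c', hc', he⟩ := ih (s.erase i1) (Finset.erase_ssubset hi1.1) c1 hc1
      refine ⟨t, ht.trans (Finset.erase_subset _ _), htli, c', hc', ?_⟩
      rw [← he]
      calc ∑ i ∈ s, c i • e i = ∑ i ∈ s, c1 i • e i := by
            rw [← sub_eq_zero, ← Finset.sum_sub_distrib]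
            calc _ = r • ∑ i ∈ s, v i • e i := by
                  rw [Finset.smul_sum]
                  refine Finset.sum_congr rfl fun i hi => ?_
                  simp only [c1, if_pos hi, ← sub_smul, smul_smul]
                  congr 1; ring
              _ = 0 := by rw [hv, smul_zero]
        _ = _ := by
            rw [← Finset.add_sum_erase _ _ hi1.1]
            simp [c1, hi1.1, r, div_mul_cancel₀ _ hi1.2.ne']

variable {N : ℕ}

/-- coercion of lattice vectors -/
def castV (g : Fin N → ℤ) : Fin N → ℝ := fun j => (g j : ℝ)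

/-- nonnegative real span of a finite set of lattice vectors -/
def coneOf (s : Finset (Fin N → ℤ)) : Set (Fin N → ℝ) :=
  {x | ∃ c : (Fin N → ℤ) → ℝ, (∀ g, 0 ≤ c g) ∧ x = ∑ g ∈ s, c g • castV g}

lemma coneOf_eq_union (s : Finset (Fin N → ℤ)) :
    coneOf s = ⋃ t ∈ {t ∈ (s.powerset : Set (Finset (Fin N → ℤ))) | LinearIndependent ℝ (fun g : t => castV g.1)},
      (fun d : t → ℝ => ∑ g : t, d g • castV g.1) '' {d | ∀ g, 0 ≤ d g} := by
  classical
  ext x
  simp only [Set.mem_iUnion, Set.mem_image, Set.mem_ofPred_eq, Finset.mem_coe, Finset.mem_powerset]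
  constructor
  · rintro ⟨c, hc, rfl⟩
    obtain ⟨t, ht, hli, c', hc', he⟩ := exists_linearIndepOn castV s c hc
    exact ⟨t, ⟨ht, hli⟩, fun g => c' g, fun g => hc' g, by rw [he, Finset.sum_coe_sort t (fun g => c' g • castV g)]⟩
  · rintro ⟨t, ⟨ht, -⟩, d, hd, rfl⟩
    refine ⟨fun g => if h : g ∈ t then d ⟨g, h⟩ else 0, fun g => by dsimp only; split_ifs <;> simp [hd], ?_⟩
    rw [← Finset.sum_subset ht (fun g _ hg => by simp [hg]), ← Finset.sum_coe_sort t]
    exact Finset.sum_congr rfl fun g _ => by simp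

lemma isClosed_coneOf (s : Finset (Fin N → ℤ)) : IsClosed (coneOf s) := by
  rw [coneOf_eq_union]
  refine Set.Finite.isClosed_biUnion (s.powerset.finite_toSet.subset fun t ht => ht.1) fun t ht => ?_
  have hemb : Topology.IsClosedEmbedding (Fintype.linearCombination ℝ (fun g : t => castV g.1)) :=
    LinearMap.isClosedEmbedding_of_injective
      (LinearMap.ker_eq_bot.mpr (linearIndependent_iff_injective_fintypeLinearCombination.mp ht.2))
  have := hemb.isClosedMap {d | ∀ g, 0 ≤ d g}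
    (by rw [Set.ofPred_forall]; exact isClosed_iInter fun g => isClosed_le continuous_const (continuous_apply g))
  rw [show (fun d : t → ℝ => ∑ g : t, d g • castV g.1) = Fintype.linearCombination ℝ (fun g : t => castV g.1) from
    funext fun d => (Fintype.linearCombination_apply ℝ _ d).symm]
  exact this

variable {ι : Type} {K : ι → Set (Fin N → ℝ)}

lemma toVec_eq {n : ICone} (φ : RFan.Cone K n) (v : Fin n.dim → ℝ) :
    RFan.toVec K n φ v = matR φ.1 *ᵥ v := by
  funext j
  simp [RFan.toVec, Matrix.mulVec, dotProduct, matR_apply]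

lemma toVec_ne_zero {n : ICone} (φ : RFan.Cone K n) (v : Orth n) : RFan.toVec K n φ v.1 ≠ 0 := fun h =>
  v.2.2 (matR_injective φ.1 φ.2.1 v.1 (by rw [← toVec_eq, h]))

/-- the space of rays is Hausdorff -/
theorem t2_rays (N : ℕ) : T2Space (Rays N) := by
  let f : Rays N → (Fin N → ℝ) := Quot.lift (fun w => ‖w.1‖⁻¹ • w.1) (by
    rintro v w ⟨c, hc, e⟩
    simp only [e, norm_smul, Real.norm_eq_abs, abs_of_pos hc, smul_smul, mul_inv_rev]
    congr 1
    field_simp)
  have hf : Continuous f := continuous_quot_lift _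
    ((continuous_subtype_val.norm.inv₀ fun w => norm_ne_zero_iff.mpr w.2).smul continuous_subtype_val)
  refine T2Space.of_injective_continuous (f := f) ?_ hf
  intro a b
  obtain ⟨v, rfl⟩ := Quot.exists_rep a
  obtain ⟨w, rfl⟩ := Quot.exists_rep b
  intro h
  have hv : 0 < ‖v.1‖ := norm_pos_iff.mpr v.2
  have hw : 0 < ‖w.1‖ := norm_pos_iff.mpr w.2
  refine Quot.sound ⟨‖w.1‖ / ‖v.1‖, div_pos hw hv, ?_⟩
  have h' : ‖v.1‖⁻¹ • v.1 = ‖w.1‖⁻¹ • w.1 := h
  rw [div_eq_mul_inv, ← smul_smul, h', smul_smul, mul_inv_cancel₀ hw.ne', one_smul]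

lemma rays_eq {v w : {v : Fin N → ℝ // v ≠ 0}}
    (h : (Quot.mk _ v : Rays N) = Quot.mk _ w) : ∃ c : ℝ, 0 < c ∧ w.1 = c • v.1 := by
  have h' := Quot.eqvGen_exact h
  clear h
  induction h' with
  | rel _ _ h => exact h
  | refl _ => exact ⟨1, one_pos, (one_smul _ _).symm⟩
  | symm a b _ ih =>
    obtain ⟨c, hc, e⟩ := ih
    exact ⟨c⁻¹, inv_pos.mpr hc, by rw [e, smul_smul, inv_mul_cancel₀ hc.ne', one_smul]⟩
  | trans a b d _ _ ih ih' =>
    obtain ⟨c, hc, e⟩ := ih
    obtain ⟨c', hc', e'⟩ := ih'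
    exact ⟨c' * c, mul_pos hc' hc, by rw [e', e, smul_smul]⟩

theorem rfan_embedding {N : ℕ} {ι : Type} [Finite ι] (K : ι → Set (Fin N → ℝ))
    (hK : ∀ a, ∃ (m : ℕ) (gen : Fin m → Finset (Fin N → ℤ)), K a = Set.iUnion fun l => coneOf (gen l)) :
    ∃ g : P (RFan K) → Rays N,
      (∀ (n : ICone) (φ : (RFan K).obj (op n)) (v : Orth n) (h : RFan.toVec K n φ v.1 ≠ 0),
        g (P.mk φ v) = Quot.mk _ ⟨RFan.toVec K n φ v.1, h⟩) ∧
      Topology.IsEmbedding g ∧
      Set.range g = {r | ∃ w : {w : Fin N → ℝ // w ≠ 0}, r = Quot.mk _ w ∧ w.1 ∈ Set.iUnion K} := by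
  classical
  have := t2_rays N
  choose m gen hgen using hK
  let pre : Pt (RFan K) → Rays N := fun p => Quot.mk _ ⟨RFan.toVec K p.1.1 p.1.2 p.2.1, toVec_ne_zero p.1.2 p.2⟩
  have hpre : ∀ p q, Rel (RFan K) p q → pre p = pre q := by
    rintro _ _ ⟨φ, ξ, v, w, c, hc, h⟩
    refine Quot.sound ⟨c, hc, ?_⟩
    simp only [toVec_eq, h, Matrix.mulVec_smul, realMap_eq, Matrix.mulVec_mulVec]
    rw [show matR (((RFan K).map φ.op ξ).1) = matR ξ.1 * matR φ.toLin from matR_comp _ _]
  let g : P (RFan K) → Rays N := Quot.lift pre hpre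
  have hg : ∀ (n : ICone) (φ : (RFan K).obj (op n)) (v : Orth n),
      g (P.mk φ v) = Quot.mk _ ⟨RFan.toVec K n φ v.1, toVec_ne_zero φ v⟩ := fun n φ v => rfl
  have hinj : Function.Injective g := by
    intro x x' h
    obtain ⟨n, φ, v, rfl⟩ := P.exists_rep x
    obtain ⟨n', ψ, v', rfl⟩ := P.exists_rep x'
    obtain ⟨c, hc, e⟩ := rays_eq (h : _ = _)
    simp only [toVec_eq] at e
    obtain ⟨k, α, β, z, hαβ, hα, hβ⟩ := exists_refine_lin φ.1 φ.2.1 ψ.1 ψ.2.1 (scale c hc v) v'
      (by rw [scale_val, Matrix.mulVec_smul, e])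
    have he : (RFan K).map α.op φ = (RFan K).map β.op ψ := Subtype.ext hαβ
    rw [← mk_glue α φ z v c⁻¹ (inv_pos.mpr hc) (by rw [hα, scale_val, smul_smul, inv_mul_cancel₀ hc.ne', one_smul]),
      ← mk_glue β ψ z v' 1 one_pos (by rw [hβ, one_smul]), he]
  have hKmem : ∀ a (x : Fin N → ℝ), x ∈ K a ↔ ∃ l, x ∈ coneOf (gen a l) := fun a x => by
    rw [hgen a, Set.mem_iUnion]
  have hKclosed : ∀ a, IsClosed (K a) := fun a => by
    rw [hgen a]; exact isClosed_iUnion_of_finite fun l => isClosed_coneOf _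
  have hKsmul : ∀ a (x : Fin N → ℝ) (c : ℝ), 0 < c → x ∈ K a → c • x ∈ K a := fun a x c hc hx => by
    obtain ⟨l, d, hd, rfl⟩ := (hKmem a x).mp hx
    refine (hKmem a _).mpr ⟨l, fun g => c * d g, fun g => mul_nonneg hc.le (hd g), ?_⟩
    rw [Finset.smul_sum]; exact Finset.sum_congr rfl fun g _ => smul_smul _ _ _
  have hmemK : ∀ (n : ICone) (φ : RFan.Cone K n) (v : Orth n), RFan.toVec K n φ v.1 ∈ Set.iUnion K := by
    intro n φ v
    obtain ⟨a, ha⟩ := φ.2.2
    refine Set.mem_iUnion.mpr ⟨a, invariant_dense (S := (fun w : Orth n => RFan.toVec K n φ w.1) ⁻¹' K a)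
      ((hKclosed a).preimage ?_) ?_ ?_ v⟩
    · simp only [toVec_eq]
      exact (Continuous.matrix_mulVec continuous_const continuous_id).comp (continuous_val n)
    · intro x y hx c hc e
      show RFan.toVec K n φ y.1 ∈ K a
      rw [toVec_eq, e, Matrix.mulVec_smul, ← toVec_eq]
      exact hKsmul a _ c hc hx
    · intro w hw hw0
      show RFan.toVec K n φ _ ∈ K a
      rw [toVec_eq]
      show matR φ.1 *ᵥ (fun i => (w i : ℝ)) ∈ K a
      rw [matR_int]
      exact ha w hw
  -- finitely many cones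
  let T : Set (Σ a : ι, Fin (m a) × Finset (Fin N → ℤ)) :=
    {p | p.2.2 ⊆ gen p.1 p.2.1 ∧ p.2.2.Nonempty ∧ LinearIndependent ℝ (fun g : p.2.2 => castV g.1)}
  have hT : T.Finite := by
    cases nonempty_fintype ι
    exact ((Finset.univ : Finset ι).sigma fun a => (Finset.univ : Finset (Fin (m a))) ×ˢ
      (Finset.univ.biUnion fun l => (gen a l).powerset)).finite_toSet.subset fun p hp => by
        simp only [Finset.mem_coe, Finset.mem_sigma, Finset.mem_univ, Finset.mem_product, Finset.mem_biUnion,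
          Finset.mem_powerset, true_and]
        exact ⟨p.2.1, hp.1⟩
  have hcone : ∀ p ∈ T, ∃ (n : ICone) (φ : RFan.Cone K n), ∀ c : (Fin N → ℤ) → ℝ, (∀ g, 0 ≤ c g) →
      ∃ v : Fin n.dim → ℝ, (∀ i, 0 ≤ v i) ∧ RFan.toVec K n φ v = ∑ g ∈ p.2.2, c g • castV g := by
    rintro ⟨a, l, t⟩ ⟨ht, hne, hli⟩
    let q : Fin t.card → (Fin N → ℤ) := fun i => (t.equivFin.symm i : Fin N → ℤ)
    let f : (Fin t.card → ℤ) →ₗ[ℤ] (Fin N → ℤ) := Fintype.linearCombination ℤ q
    have hsum : ∀ v : Fin t.card → ℝ, matR f *ᵥ v = ∑ g : t, v (t.equivFin g) • castV g.1 := fun v => by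
      rw [← Equiv.sum_comp t.equivFin.symm]
      funext j
      simp [Matrix.mulVec, dotProduct, matR_apply, f, q, Fintype.linearCombination_apply_single, castV,
        Finset.sum_apply, mul_comm]
    have hf : Function.Injective f := (injective_iff_map_eq_zero _).mpr fun w hw => by
      have h0 := hsum (fun i => (w i : ℝ))
      rw [matR_int, hw] at h0
      funext i
      have := Fintype.linearIndependent_iff.mp hli (fun g => (w (t.equivFin g) : ℝ))
        (h0.symm.trans (funext fun j => by simp)) (t.equivFin.symm i)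
      simpa using this
    have hfK : ∀ v : Fin t.card → ℤ, (∀ i, 0 ≤ v i) → (fun j => (f v j : ℝ)) ∈ K a := fun v hv => by
      refine (hKmem a _).mpr ⟨l, ?_⟩
      rw [← matR_int, hsum, coneOf_eq_union, Set.mem_iUnion₂]
      exact ⟨t, ⟨Finset.mem_coe.mpr (Finset.mem_powerset.mpr ht), hli⟩, _, fun g => Int.cast_nonneg (hv _), rfl⟩
    refine ⟨⟨⟨t.card, hne.card_pos⟩⟩, ⟨f, hf, a, hfK⟩, fun c hc => ?_⟩
    refine ⟨fun i => c (t.equivFin.symm i), fun i => hc _, ?_⟩
    rw [toVec_eq]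
    refine (hsum _).trans ?_
    refine Eq.trans ?_ (Finset.sum_coe_sort t (fun g => c g • castV g))
    simp
  choose nT φT hφT using fun p : T => hcone p.1 p.2
  have hrange : ∀ w : {w : Fin N → ℝ // w ≠ 0}, w.1 ∈ Set.iUnion K →
      ∃ (p : T) (v : Orth (nT p)), g (P.mk (φT p) v) = Quot.mk _ w := by
    rintro ⟨w, hw0⟩ hw
    obtain ⟨a, ha⟩ := Set.mem_iUnion.mp hw
    obtain ⟨l, c, hc, rfl⟩ := (hKmem a w).mp ha
    obtain ⟨t, ht, hli, c', hc', he⟩ := exists_linearIndepOn castV (gen a l) c hc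
    have hne : t.Nonempty := Finset.nonempty_iff_ne_empty.mpr fun h => hw0 (by rw [he, h, Finset.sum_empty])
    have hp : (⟨a, l, t⟩ : Σ a : ι, Fin (m a) × Finset (Fin N → ℤ)) ∈ T := ⟨ht, hne, hli⟩
    obtain ⟨v, hv, hv'⟩ := hφT ⟨_, hp⟩ c' hc'
    refine ⟨⟨_, hp⟩, ⟨v, hv, fun h0 => hw0 ?_⟩, ?_⟩
    · rw [he, ← hv', h0, toVec_eq, Matrix.mulVec_zero]
    · exact congrArg (Quot.mk _) (Subtype.ext (hv'.trans he.symm))
  refine ⟨g, fun n φ v h => hg n φ v, ?_, ?_⟩
  · have hgc : Continuous g := continuous_quot_lift hpre (continuous_sigma_iff.mpr fun e =>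
      continuous_quot_mk.comp (Continuous.subtype_mk
        (show Continuous fun v : Orth e.1 => RFan.toVec K e.1 e.2 v.1 from by
          simp only [toVec_eq]
          exact (Continuous.matrix_mulVec continuous_const continuous_id).comp (continuous_val e.1)) _))
    have : CompactSpace (P (RFan K)) := by
      refine ⟨?_⟩
      have : Finite T := hT.to_subtype
      have : (Set.univ : Set (P (RFan K))) = ⋃ p : T, P.mk (φT p) '' {v | ∑ i, v.1 i = 1} := by
        refine Set.ext fun x => iff_of_true trivial ?_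
        obtain ⟨n, φ, v, rfl⟩ := P.exists_rep x
        obtain ⟨p, v', hv'⟩ := hrange ⟨_, toVec_ne_zero φ v⟩ (hmemK n φ v)
        exact Set.mem_iUnion.mpr ⟨p, nrm v', sum_nrm v', hinj (by rw [mk_nrm, hv', hg])⟩
      rw [this]
      exact isCompact_iUnion fun p => (isCompact_sum_one _).image (continuous_mk _)
    exact (hgc.isClosedEmbedding hinj).isEmbedding
  · ext r
    constructor
    · rintro ⟨x, rfl⟩
      obtain ⟨n, φ, v, rfl⟩ := P.exists_rep x
      exact ⟨_, hg n φ v, hmemK n φ v⟩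
    · rintro ⟨w, rfl, hw⟩
      obtain ⟨p, v, hv⟩ := hrange w hw
      exact ⟨P.mk (φT p) v, hv⟩

end Groth.Misc15.Fan
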