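import Groth.Prelude.Def_W4c6instabfans3Fan
import Groth.Agent.Misc15.Fan.Cone
import Mathlib

/-! The gluing relation of the projective realization of a fan is described by a common sub-cone. -/

set_option autoImplicit false
universe u
open scoped Matrix
open CategoryTheory Opposite Instab Instab.Fan

namespace Groth.Misc15.Fan

section matR
variable {I J L : Type*} [Fintype I] [DecidableEq I] [Fintype J] [DecidableEq J] [Fintype L] [DecidableEq L]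

/-- real matrix of an additive map of lattices -/
def matR (f : (I → ℤ) →ₗ[ℤ] (J → ℤ)) : Matrix J I ℝ :=
  (LinearMap.toMatrix' f).map (fun a : ℤ => (a : ℝ))

lemma matR_apply (f : (I → ℤ) →ₗ[ℤ] (J → ℤ)) (j : J) (i : I) :
    matR f j i = (f (Pi.single i 1) j : ℝ) := by
  simp [matR, LinearMap.toMatrix'_apply]

lemma matR_int (f : (I → ℤ) →ₗ[ℤ] (J → ℤ)) (w : I → ℤ) :
    matR f *ᵥ (fun i => (w i : ℝ)) = fun j => (f w j : ℝ) := by
  funext j
  conv_rhs => rw [← LinearMap.toMatrix'_mulVec f w]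
  simp [Matrix.mulVec, dotProduct, matR]

lemma matR_comp (g : (J → ℤ) →ₗ[ℤ] (L → ℤ)) (f : (I → ℤ) →ₗ[ℤ] (J → ℤ)) :
    matR (g ∘ₗ f) = matR g * matR f := by
  rw [matR, LinearMap.toMatrix'_comp]
  exact Matrix.map_mul (f := Int.castRingHom ℝ)

lemma matR_injective (f : (I → ℤ) →ₗ[ℤ] (J → ℤ)) (hf : Function.Injective f) (x : I → ℝ)
    (hx : matR f *ᵥ x = 0) : x = 0 := by
  refine real_ker_trivial ((LinearMap.toMatrix' f).map (fun a : ℤ => (a : ℚ))) (fun w hw => ?_) x ?_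
  · obtain ⟨D, hD⟩ := IsLocalization.exist_integer_multiples_of_finite (nonZeroDivisors ℤ) w
    choose w' hw' using hD
    have hw'' : ∀ i, (w' i : ℚ) = (D : ℤ) * w i := fun i => by simpa using hw' i
    have h0 : f w' = 0 := by
      funext j
      have h := congrFun hw j
      rw [← LinearMap.toMatrix'_mulVec f w']
      simp only [Matrix.mulVec, dotProduct, Matrix.map_apply, Pi.zero_apply] at h ⊢
      have : ((∑ i, (LinearMap.toMatrix' f) j i * w' i : ℤ) : ℚ) = ((0 : ℤ) : ℚ) := by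
        push_cast
        simp only [hw'']
        calc _ = ((D : ℤ) : ℚ) * ∑ i, (((LinearMap.toMatrix' f) j i : ℤ) : ℚ) * w i := by
              rw [Finset.mul_sum]; exact Finset.sum_congr rfl fun i _ => by ring
          _ = 0 := by rw [h, mul_zero]
      exact_mod_cast this
    have hw'0 : w' = 0 := hf (h0.trans (map_zero f).symm)
    funext i
    have h := (hw'' i).symm
    rw [hw'0] at h
    simpa [nonZeroDivisors.coe_ne_zero D] using h
  · rw [show ((LinearMap.toMatrix' f).map (fun a : ℤ => (a : ℚ))).map (Rat.castHom ℝ) = matR f from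
      Matrix.ext fun j i => by simp [matR]]
    exact hx

end matR

variable {k n m : ICone}

lemma realMap_eq (φ : k ⟶ n) (v : Fin k.dim → ℝ) : φ.realMap v = matR φ.toLin *ᵥ v := by
  funext j
  simp [ICone.Hom.realMap, Matrix.mulVec, dotProduct, matR_apply]

lemma realMap_id (v : Fin n.dim → ℝ) : (𝟙 n : n ⟶ n).realMap v = v := by
  rw [realMap_eq, show matR (𝟙 n : n ⟶ n).toLin = 1 from by
    rw [show (𝟙 n : n ⟶ n).toLin = LinearMap.id from rfl]; simp [matR, Matrix.map_one], Matrix.one_mulVec]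

lemma realMap_comp (φ : k ⟶ n) (ψ : n ⟶ m) (v : Fin k.dim → ℝ) :
    (φ ≫ ψ).realMap v = ψ.realMap (φ.realMap v) := by
  rw [realMap_eq, realMap_eq, realMap_eq, show (φ ≫ ψ).toLin = ψ.toLin ∘ₗ φ.toLin from rfl, matR_comp,
    Matrix.mulVec_mulVec]

lemma realMap_int (φ : k ⟶ n) (w : Fin k.dim → ℤ) :
    φ.realMap (fun i => (w i : ℝ)) = fun j => (φ.toLin w j : ℝ) := by
  rw [realMap_eq, matR_int]

lemma realMap_smul (φ : k ⟶ n) (c : ℝ) (v : Fin k.dim → ℝ) : φ.realMap (c • v) = c • φ.realMap v := by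
  rw [realMap_eq, realMap_eq, Matrix.mulVec_smul]

lemma realMap_inj (φ : k ⟶ n) {v w : Fin k.dim → ℝ} (h : φ.realMap v = φ.realMap w) : v = w := by
  rw [realMap_eq, realMap_eq] at h
  exact sub_eq_zero.mp (matR_injective φ.toLin φ.injective _ (by rw [Matrix.mulVec_sub, h, sub_self]))

lemma realMap_nonneg (φ : k ⟶ n) {v : Fin k.dim → ℝ} (hv : ∀ i, 0 ≤ v i) (j : Fin n.dim) :
    0 ≤ φ.realMap v j := by
  refine Finset.sum_nonneg fun i _ => mul_nonneg (Int.cast_nonneg (φ.nonneg _ (fun a => ?_) j)) (hv i)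
  by_cases h : a = i <;> simp [h]

lemma orth_ext {v w : Orth n} (h : v.1 = w.1) : v = w := Subtype.ext h

/-- image of a point of the orthant -/
def push (φ : k ⟶ n) (v : Orth k) : Orth n :=
  ⟨φ.realMap v.1, realMap_nonneg φ v.2.1, fun h => v.2.2 (realMap_inj φ (h.trans (by simp [realMap_eq])))⟩

@[simp] lemma push_val (φ : k ⟶ n) (v : Orth k) : (push φ v).1 = φ.realMap v.1 := rfl

/-- positive rescaling -/
def scale {n : ICone} (c : ℝ) (hc : 0 < c) (v : Orth n) : Orth n :=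
  ⟨c • v.1, fun i => mul_nonneg hc.le (v.2.1 i), smul_ne_zero hc.ne' v.2.2⟩

@[simp] lemma scale_val (c : ℝ) (hc : 0 < c) (v : Orth n) : (scale c hc v).1 = c • v.1 := rfl

lemma exists_refine_lin {J : Type*} [Fintype J] [DecidableEq J] {k k' : ICone}
    (φ : (Fin k.dim → ℤ) →ₗ[ℤ] (J → ℤ)) (hφ : Function.Injective φ)
    (ψ : (Fin k'.dim → ℤ) →ₗ[ℤ] (J → ℤ)) (hψ : Function.Injective ψ) (y : Orth k) (y' : Orth k')
    (h : matR φ *ᵥ y.1 = matR ψ *ᵥ y'.1) :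
    ∃ (k'' : ICone) (α : k'' ⟶ k) (β : k'' ⟶ k') (z : Orth k''),
      φ ∘ₗ α.toLin = ψ ∘ₗ β.toLin ∧ α.realMap z.1 = y.1 ∧ β.realMap z.1 = y'.1 := by
  classical
  let M : Matrix J (Fin k.dim ⊕ Fin k'.dim) ℤ :=
    Matrix.fromCols (LinearMap.toMatrix' φ) (-(LinearMap.toMatrix' ψ))
  have hM : ∀ w, M *ᵥ w = φ (w ∘ Sum.inl) - ψ (w ∘ Sum.inr) := fun w => by
    simp only [M, Matrix.fromCols_mulVec, Matrix.neg_mulVec, LinearMap.toMatrix'_mulVec, sub_eq_add_neg]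
  have hx0 : Sum.elim y.1 y'.1 ≠ 0 := fun h0 => y.2.2 (funext fun i => congrFun h0 (Sum.inl i))
  have hMx : M.map (fun a : ℤ => (a : ℝ)) *ᵥ Sum.elim y.1 y'.1 = 0 := by
    have : M.map (fun a : ℤ => (a : ℝ)) = Matrix.fromCols (matR φ) (-(matR ψ)) := by
      ext j (i | i) <;> simp [M, matR]
    rw [this, Matrix.fromCols_mulVec, Sum.elim_comp_inl, Sum.elim_comp_inr, Matrix.neg_mulVec,
      h, add_neg_cancel]
  obtain ⟨d, q, z, hd, hq, hMq, hli, hz, hx⟩ := exists_int_simplicial M (Sum.elim y.1 y'.1)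
    (fun i => by rcases i with i | i <;> simp [y.2.1, y'.2.1]) hx0 hMx
  let S : (Fin d → ℤ) →ₗ[ℤ] (Fin k.dim ⊕ Fin k'.dim → ℤ) := Fintype.linearCombination ℤ q
  have hMS : ∀ w, φ (S w ∘ Sum.inl) = ψ (S w ∘ Sum.inr) := fun w => by
    refine sub_eq_zero.mp ((hM _).symm.trans ?_)
    rw [Fintype.linearCombination_apply, Matrix.mulVec_sum]
    exact Finset.sum_eq_zero fun a _ => by rw [Matrix.mulVec_smul, hMq, smul_zero]
  have hS : Function.Injective S := linearIndependent_iff_injective_fintypeLinearCombination.mp hli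
  have hSnn : ∀ w, (∀ a, 0 ≤ w a) → ∀ i, 0 ≤ S w i := fun w hw i => by
    simp only [S, Fintype.linearCombination_apply, Finset.sum_apply, Pi.smul_apply, smul_eq_mul]
    exact Finset.sum_nonneg fun a _ => mul_nonneg (hw a) (hq a i)
  have key : ∀ w, S w ∘ Sum.inl = 0 ↔ S w ∘ Sum.inr = 0 := fun w =>
    ⟨fun hw => hψ (by rw [← hMS, hw, map_zero, map_zero]),
     fun hw => hφ (by rw [hMS, hw, map_zero, map_zero])⟩
  have hzero : ∀ w, S w ∘ Sum.inl = 0 → S w ∘ Sum.inr = 0 → w = 0 := fun w hl hr => hS (by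
    rw [map_zero]
    funext i
    rcases i with i | i
    · exact congrFun hl i
    · exact congrFun hr i)
  have hαi : Function.Injective (LinearMap.funLeft ℤ ℤ Sum.inl ∘ₗ S) :=
    (injective_iff_map_eq_zero _).mpr fun w hw => hzero w hw ((key w).mp hw)
  have hβi : Function.Injective (LinearMap.funLeft ℤ ℤ Sum.inr ∘ₗ S) :=
    (injective_iff_map_eq_zero _).mpr fun w hw => hzero w ((key w).mpr hw) hw
  let α : (⟨⟨d, hd⟩⟩ : ICone) ⟶ k := ⟨LinearMap.funLeft ℤ ℤ Sum.inl ∘ₗ S, hαi, fun w hw i => hSnn w hw _⟩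
  let β : (⟨⟨d, hd⟩⟩ : ICone) ⟶ k' := ⟨LinearMap.funLeft ℤ ℤ Sum.inr ∘ₗ S, hβi, fun w hw i => hSnn w hw _⟩
  have eS : ∀ a i, S (Pi.single a 1) i = q a i := fun a i => by
    simp [S, Fintype.linearCombination_apply_single]
  refine ⟨_, α, β, ⟨z, fun a => (hz a).le, fun h0 => (hz ⟨0, hd⟩).ne' (congrFun h0 _)⟩,
    LinearMap.ext hMS, ?_, ?_⟩
  · funext i
    refine Eq.trans ?_ (congrFun hx (Sum.inl i)).symm
    exact Finset.sum_congr rfl fun a _ => (mul_comm _ _).trans (congrArg (fun t : ℤ => z a * (t : ℝ)) (eS a _))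
  · funext i
    refine Eq.trans ?_ (congrFun hx (Sum.inr i)).symm
    exact Finset.sum_congr rfl fun a _ => (mul_comm _ _).trans (congrArg (fun t : ℤ => z a * (t : ℝ)) (eS a _))

lemma exists_refine {k k' n : ICone} (φ : k ⟶ n) (ψ : k' ⟶ n) (y : Orth k) (y' : Orth k')
    (h : φ.realMap y.1 = ψ.realMap y'.1) :
    ∃ (k'' : ICone) (α : k'' ⟶ k) (β : k'' ⟶ k') (z : Orth k''),
      α ≫ φ = β ≫ ψ ∧ α.realMap z.1 = y.1 ∧ β.realMap z.1 = y'.1 := by
  rw [realMap_eq, realMap_eq] at h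
  obtain ⟨k'', α, β, z, e, e₁, e₂⟩ := exists_refine_lin φ.toLin φ.injective ψ.toLin ψ.injective y y' h
  exact ⟨k'', α, β, z, ICone.Hom.ext e, e₁, e₂⟩

variable {F G : Fan.{u}}

lemma map_map (α : k ⟶ n) (φ : n ⟶ m) (σ : F.obj (op m)) :
    F.map α.op (F.map φ.op σ) = F.map (α ≫ φ).op σ := by simp

lemma map_id' (σ : F.obj (op n)) : F.map (𝟙 n).op σ = σ := by simp

lemma app_map (f : F ⟶ G) (φ : k ⟶ n) (σ : F.obj (op n)) :
    f.app (op k) (F.map φ.op σ) = G.map φ.op (f.app (op n) σ) :=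
  NatTrans.naturality_apply f φ.op σ

lemma map_mk (f : F ⟶ G) (σ : F.obj (op n)) (v : Orth n) :
    Fan.P.map f (P.mk σ v) = P.mk (f.app (op n) σ) v := rfl

lemma mk_glue (φ : k ⟶ n) (ξ : F.obj (op n)) (v : Orth k) (w : Orth n) (c : ℝ) (hc : 0 < c)
    (h : w.1 = c • φ.realMap v.1) : P.mk (F.map φ.op ξ) v = P.mk ξ w :=
  Quot.sound (Rel.glue φ ξ v w c hc h)

lemma mk_push (φ : k ⟶ n) (ξ : F.obj (op n)) (v : Orth k) :
    P.mk (F.map φ.op ξ) v = P.mk ξ (push φ v) :=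
  mk_glue φ ξ v _ 1 one_pos (one_smul ℝ _).symm

lemma mk_scale (ξ : F.obj (op n)) {v w : Orth n} {c : ℝ} (hc : 0 < c) (h : w.1 = c • v.1) :
    P.mk ξ w = P.mk ξ v := by
  have := mk_glue (𝟙 n) ξ v w c hc (by rw [realMap_id, h])
  rw [map_id'] at this
  exact this.symm

/-- two points come from one point of a common sub-cone -/
def Sim (p q : Pt F) : Prop :=
  ∃ (k : ICone) (φ₁ : k ⟶ p.1.1) (φ₂ : k ⟶ q.1.1) (y : Orth k) (c₁ c₂ : ℝ),
    F.map φ₁.op p.1.2 = F.map φ₂.op q.1.2 ∧ 0 < c₁ ∧ 0 < c₂ ∧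
      p.2.1 = c₁ • φ₁.realMap y.1 ∧ q.2.1 = c₂ • φ₂.realMap y.1

lemma Sim.refl (p : Pt F) : Sim p p :=
  ⟨_, 𝟙 _, 𝟙 _, p.2, 1, 1, rfl, one_pos, one_pos, by rw [realMap_id, one_smul], by rw [realMap_id, one_smul]⟩

lemma Sim.symm {p q : Pt F} : Sim p q → Sim q p :=
  fun ⟨k, φ₁, φ₂, y, c₁, c₂, h, h₁, h₂, e₁, e₂⟩ => ⟨k, φ₂, φ₁, y, c₂, c₁, h.symm, h₂, h₁, e₂, e₁⟩

lemma Sim.trans {p q r : Pt F} : Sim p q → Sim q r → Sim p r := by
  rintro ⟨k, φ₁, φ₂, y, c₁, c₂, h, h₁, h₂, e₁, e₂⟩ ⟨k', ψ₁, ψ₂, y', d₁, d₂, h', h₁', h₂', e₁', e₂'⟩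
  obtain ⟨k'', α, β, z, hαβ, hα, hβ⟩ := exists_refine φ₂ ψ₁ (scale c₂ h₂ y) (scale d₁ h₁' y')
    (by rw [scale_val, scale_val, realMap_smul, realMap_smul, ← e₂, ← e₁'])
  refine ⟨k'', α ≫ φ₁, β ≫ ψ₂, z, c₁ / c₂, d₂ / d₁, ?_, div_pos h₁ h₂, div_pos h₂' h₁', ?_, ?_⟩
  · rw [← map_map, h, map_map, hαβ, ← map_map, h', map_map]
  · rw [realMap_comp, hα, scale_val, realMap_smul, smul_smul, div_mul_cancel₀ _ h₂.ne', e₁]
  · rw [realMap_comp, hβ, scale_val, realMap_smul, smul_smul, div_mul_cancel₀ _ h₁'.ne', e₂']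

lemma sim_of_rel {p q : Pt F} : Rel F p q → Sim p q := by
  rintro ⟨φ, ξ, v, w, c, hc, h⟩
  exact ⟨_, 𝟙 _, φ, v, 1, c, map_id' (F.map φ.op ξ), one_pos, hc, by simp [realMap_id], h⟩

lemma sim_of_eq {p q : Pt F} (h : (Quot.mk _ p : P F) = Quot.mk _ q) : Sim p q := by
  have h' := Quot.eqvGen_exact h
  clear h
  induction h' with
  | rel _ _ h => exact sim_of_rel h
  | refl _ => exact Sim.refl _
  | symm _ _ _ ih => exact ih.symm
  | trans _ _ _ _ _ ih ih' => exact ih.trans ih'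

/-- the common sub-cone of two representatives of the same point -/
lemma exists_common {n₁ n₂ : ICone} {σ₁ : F.obj (op n₁)} {σ₂ : F.obj (op n₂)} {v₁ : Orth n₁} {v₂ : Orth n₂}
    (h : P.mk σ₁ v₁ = P.mk σ₂ v₂) :
    ∃ (k : ICone) (φ₁ : k ⟶ n₁) (φ₂ : k ⟶ n₂) (y : Orth k) (c₁ c₂ : ℝ),
      F.map φ₁.op σ₁ = F.map φ₂.op σ₂ ∧ 0 < c₁ ∧ 0 < c₂ ∧
        v₁.1 = c₁ • φ₁.realMap y.1 ∧ v₂.1 = c₂ • φ₂.realMap y.1 :=
  sim_of_eq h

lemma P.exists_rep (x : P F) : ∃ (n : ICone) (σ : F.obj (op n)) (v : Orth n), x = P.mk σ v := by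
  obtain ⟨⟨⟨n, σ⟩, v⟩⟩ := x
  exact ⟨n, σ, v, rfl⟩

lemma map_comp_apply {H : Fan.{u}} (f : F ⟶ G) (g : G ⟶ H) (x : P F) :
    Fan.P.map (f ≫ g) x = Fan.P.map g (Fan.P.map f x) := by
  obtain ⟨p⟩ := x
  rfl

end Groth.Misc15.Fan
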